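import Groth.Agent.L23.ChevGen.Closed
import Groth.Agent.L23.IdealFt
import Groth.Agent.L23.LocP

/-!
# A closed subspace as the limit of those of finite presentation containing it
-/

universe u

open CategoryTheory CategoryTheory.Limits AlgebraicGeometry Opposite AlgSp TopologicalSpace

set_option autoImplicit false
set_option linter.style.haveILetI false
set_option backward.isDefEq.respectTransparency false
set_option backward.isDefEq.respectTransparency.types false

noncomputable section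

namespace Groth.L23.ChevGen

open Groth.L23.GlobSec

variable {S : Scheme.{u}} {X : AlgSp.Space S}

/-- The closed subspace cut out by a union of ideals is the limit. -/
theorem exists_limit_of_iSup {K : Type u} [Preorder K] [IsDirected K (· ≤ ·)] [Nonempty K]
    (I : K → IdealEt X.obj) (hmono : ∀ {j k}, j ≤ k → I j ≤ I k) (Z : K → Sp S) (i : ∀ k, Z k ⟶ X.obj)
    (hi : ∀ k, IsCutOutBy (I k) (i k)) {J : IdealEt X.obj} (hJ : ∀ E hE, J.ideal E hE = ⨆ k, (I k).ideal E hE)
    {W : Sp S} {c : W ⟶ X.obj} (hc : IsCutOutBy J c) :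
    ∃ (D : Kᵒᵖ ⥤ Sp S) (t : D ⟶ (Functor.const Kᵒᵖ).obj X.obj) (cn : Cone D) (_ : IsLimit cn) (e : cn.pt ≅ W),
      (∀ j k (φ : j ⟶ k), RepWith @IsClosedImmersion (D.map φ)) ∧
      (∀ j, ∃ θ : D.obj j = Z j.unop, t.app j = eqToHom θ ≫ i j.unop) ∧
      ∀ j, e.inv ≫ cn.π.app j ≫ t.app j = c := by
  choose l hl using fun (j k : K) (h : j ≤ k) =>
    (CutOut.le_iff_exists_factor X.property (hi j) (hi k)).1 (hmono h)
  choose lc hlc using fun k : K => (CutOut.le_iff_exists_factor X.property (hi k) hc).1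
    (fun E hE => (hJ E hE).ge.trans' (le_iSup (fun k => (I k).ideal E hE) k))
  haveI hm : ∀ k, Mono (i k) := fun k => mono_of_closedImmersion (hi k).choose
  haveI : Mono c := mono_of_closedImmersion hc.choose
  let D : Kᵒᵖ ⥤ Sp S :=
    { obj := fun j => Z j.unop
      map := fun {j k} f => l k.unop j.unop (leOfHom f.unop)
      map_id := fun j => (cancel_mono (i j.unop)).1 (by rw [hl, Category.id_comp])
      map_comp := fun {j k m} f g => (cancel_mono (i m.unop)).1 (by rw [hl, Category.assoc, hl, hl]) }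
  let t : D ⟶ (Functor.const Kᵒᵖ).obj X.obj :=
    { app := fun j => i j.unop
      naturality := fun j k f => by
        show l _ _ _ ≫ i k.unop = i j.unop ≫ 𝟙 _
        rw [hl, Category.comp_id] }
  let cn : Cone D :=
    { pt := W
      π := { app := fun j => lc j.unop
             naturality := fun j k f => (cancel_mono (i k.unop)).1 (by
               show (𝟙 _ ≫ lc k.unop) ≫ _ = (lc j.unop ≫ l _ _ _) ≫ _
               rw [Category.id_comp, hlc, Category.assoc, hl, hlc]) } }
  have hfac : ∀ s : Cone D, ∃ m : s.pt ⟶ W, ∀ j, m ≫ lc j.unop = s.π.app j := fun s => by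
    let k₀ : K := Classical.arbitrary K
    let f := s.π.app (op k₀) ≫ i k₀
    have hf : ∀ j, s.π.app j ≫ i j.unop = f := fun j => by
      obtain ⟨m, h1, h2⟩ := directed_of (· ≤ ·) j.unop k₀
      have w1 : s.π.app (op m) ≫ l j.unop m h1 = s.π.app j := s.w (homOfLE h1).op
      have w2 : s.π.app (op m) ≫ l k₀ m h2 = s.π.app (op k₀) := s.w (homOfLE h2).op
      rw [← w1, Category.assoc, hl]
      show _ = s.π.app (op k₀) ≫ i k₀
      rw [← w2, Category.assoc, hl]
    obtain ⟨m, hm'⟩ := exists_factor_of_pointwise c f fun U x => by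
      refine (CutOut.exists_factor_iff_le X.property hc _ (X.property.representable_from_yon _)).2 fun E hE => ?_
      rw [hJ]
      refine iSup_le fun k => ?_
      exact ((CutOut.exists_factor_iff_le X.property (hi k) (x ≫ f) (X.property.representable_from_yon _)).1
        ⟨x ≫ s.π.app (op k), by rw [Category.assoc]; exact congrArg (x ≫ ·) (hf (op k))⟩) E hE
    exact ⟨m, fun j => (cancel_mono (i j.unop)).1 (by rw [Category.assoc, hlc, hm', hf])⟩
  choose m hm' using hfac
  refine ⟨D, t, cn, ⟨m, hm', fun s n hn => (cancel_mono c).1 (by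
    rw [← hlc (Classical.arbitrary K), ← Category.assoc, ← Category.assoc, hm' s (op (Classical.arbitrary K))]
    exact congrArg (· ≫ i _) (hn (op (Classical.arbitrary K))))⟩, Iso.refl _, fun j k φ => ?_,
    fun j => ⟨rfl, (Category.id_comp _).symm⟩, fun j => (Category.id_comp _).trans (hlc j.unop)⟩
  exact closedImmersion_of_comp (hi k.unop).choose (hi j.unop).choose (hl _ _ _)

theorem isFinitePresentationMor_of_fg {Z : Sp S} {i : Z ⟶ X.obj} {I : IdealEt X.obj} (hi : IsCutOutBy I i)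
    (a : Atlas X.obj) (hI : (I.ideal a.U a.aff).FG) : IsFinitePresentationMor i := by
  haveI := a.aff
  obtain ⟨hcl, rfl⟩ := hi
  let w := hcl.1.snd a.U.obj.hom
  haveI : IsClosedImmersion w.left := repWith_snd hcl _
  haveI := mono_of_closedImmersion hcl
  haveI : IsAffine (hcl.1.pullback a.U.obj.hom).left := isAffine_of_isAffineHom w.left
  have hlfp : LocallyOfFinitePresentation w.left := by
    refine (HasRingHomProperty.iff_of_isAffine (P := @LocallyOfFinitePresentation)).2 ?_
    exact RingHom.FinitePresentation.of_surjective _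
      ((HasAffineProperty.iff_of_isAffine (P := @IsClosedImmersion)).1 ‹IsClosedImmersion w.left›).2 hI
  have hps : RepWith @Surjective a.U.obj.hom := repWith_surjective_of_map (X.property.representable_from_yon _)
    fun x => by
      obtain ⟨e, he⟩ := a.surj x
      exact ⟨_, (Points.ofPt_eq_map_ofScheme _ e).symm.trans he⟩
  refine ⟨locP_of_chart etLocal_lfp (repWith_of_isPullback (hcl.1.isPullback _).flip a.U.property)
    (repWith_of_isPullback (hcl.1.isPullback _).flip hps) a.U.property (hcl.1.isPullback _).w hlfp,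
    isQuasiCompactMor_of_repWith (CutOut.repWith_quasiCompact_of_closedImmersion hcl), ?_⟩
  show RepWith @QuasiCompact (pullback.diagonal i)
  exact repWith_of_isIso _

theorem concl_of_cut (a : Atlas X.obj) {Z Z' : Sp S} {i : Z ⟶ X.obj} {I : IdealEt X.obj} (hi : IsCutOutBy I i)
    (hI : (I.ideal a.U a.aff).FG) (t₀ : Finset Γ(a.U.obj.left.left, ⊤)) (ht₀ : ∀ f ∈ t₀, f ∈ I.ideal a.U a.aff)
    {t' : Z' ⟶ X.obj} (h : ∃ θ : Z' = Z, t' = eqToHom θ ≫ i) :
    ∃ h : RepWith @IsClosedImmersion t', IsFinitePresentationMor t' ∧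
      ∀ f ∈ t₀, f ∈ (idealOfRep h.1).ideal a.U a.aff := by
  obtain ⟨θ, hθ⟩ := h
  subst θ
  rw [eqToHom_refl, Category.id_comp] at hθ
  subst hθ
  exact ⟨hi.choose, isFinitePresentationMor_of_fg hi a hI, fun f hf => by rw [hi.choose_spec]; exact ht₀ f hf⟩

set_option maxHeartbeats 2400000 in
/-- The finite type parts of an ideal sheaf containing given functions, recorded on the atlas. -/
theorem exists_limit_fp_atlas [QuasiSeparatedSpace ↥S] (hqc : IsQuasiCompactSp X.obj) (hqs : IsQuasiSeparatedSp X.obj)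
    {W : Sp S} {c : W ⟶ X.obj} (hc : RepWith @IsClosedImmersion c) (a : Atlas X.obj)
    (t₀ : Finset Γ(a.U.obj.left.left, ⊤)) (ht₀ : ∀ f ∈ t₀, f ∈ (idealOfRep hc.1).ideal a.U a.aff) :
    ∃ (K : Type u) (_ : Preorder K) (_ : IsDirected K (fun a b => a ≤ b)) (_ : Nonempty K) (D : Kᵒᵖ ⥤ Sp S)
      (t : D ⟶ (Functor.const Kᵒᵖ).obj X.obj) (cn : Cone D) (_ : IsLimit cn) (e : cn.pt ≅ W),
      (∀ i, IsAlgSpace (D.obj i)) ∧ (∀ (i j : Kᵒᵖ) (φ : i ⟶ j), RepWith @IsClosedImmersion (D.map φ)) ∧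
      (∀ i, ∃ h : RepWith @IsClosedImmersion (t.app i), IsFinitePresentationMor (t.app i) ∧
        ∀ f ∈ t₀, f ∈ (idealOfRep h.1).ideal a.U a.aff) ∧
      (∀ i, e.inv ≫ cn.π.app i ≫ t.app i = c) := by
  haveI := a.aff
  let J := idealOfRep hc.1
  have hJ : J.IsQCoh := CutOut.idealOfRep_isQCoh (CutOut.repWith_quasiCompact_of_closedImmersion hc)
  let K := {j : Ideal Γ(a.U.obj.left.left, ⊤) // (∀ f ∈ t₀, f ∈ j) ∧ ∃ I : IdealEt X.obj, I.IsQCoh ∧
    (∀ (E : EtOver X.obj) (hE : IsAffine E.obj.left.left), (I.ideal E hE).FG) ∧ I ≤ J ∧ I.ideal a.U a.aff = j}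
  choose I hI hfg hle hval using fun j : K => j.2.2
  choose Z hZ i hi using fun j : K => CutOut.exists_isCutOutBy X.property (hI j)
  have hmono : ∀ {j k : K}, j ≤ k → I j ≤ I k := fun {j k} h =>
    le_of_atlas a (hi j) (hi k) (by rw [hval, hval]; exact h)
  classical
  have hex : ∀ t : Finset Γ(a.U.obj.left.left, ⊤), (∀ f ∈ t, f ∈ J.ideal a.U a.aff) →
      ∃ k : K, ∀ f ∈ t, f ∈ (I k).ideal a.U a.aff := fun t ht => by
    obtain ⟨I', h1, h2, h3, h4⟩ := IdealFt.exists_ft_le X.property hqc hqs J hJ a.U (t ∪ t₀) fun f hf => by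
      rcases Finset.mem_union.1 hf with h | h
      exacts [ht f h, ht₀ f h]
    exact ⟨⟨_, fun f hf => h4 f (Finset.mem_union_right _ hf), I', h1, h2, h3, rfl⟩,
      fun f hf => by rw [hval]; exact h4 f (Finset.mem_union_left _ hf)⟩
  haveI : Nonempty K := ⟨(hex ∅ fun f hf => absurd hf (Finset.notMem_empty f)).choose⟩
  haveI : IsDirected K (· ≤ ·) := ⟨fun j k => by
    obtain ⟨tj, htj⟩ := hfg j a.U a.aff
    obtain ⟨tk, htk⟩ := hfg k a.U a.aff
    obtain ⟨m, hm⟩ := hex (tj ∪ tk) fun f hf => by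
      rcases Finset.mem_union.1 hf with h | h
      · exact hle j a.U a.aff (htj.le (Submodule.subset_span h))
      · exact hle k a.U a.aff (htk.le (Submodule.subset_span h))
    refine ⟨m, ?_, ?_⟩
    · rw [← Subtype.coe_le_coe, ← hval j, ← hval m, ← htj, Submodule.span_le]
      exact fun f hf => hm f (Finset.mem_union_left _ hf)
    · rw [← Subtype.coe_le_coe, ← hval k, ← hval m, ← htk, Submodule.span_le]
      exact fun f hf => hm f (Finset.mem_union_right _ hf)⟩
  let J' : IdealEt X.obj :=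
    { ideal := fun E hE => ⨆ k : K, (I k).ideal E hE
      map_le := fun {E E'} g hE hE' => by
        rw [Ideal.map_iSup]
        exact iSup_mono fun k => (I k).map_le g hE hE' }
  have hJ'qc : J'.IsQCoh := fun E E' g hE hE' => by
    show (⨆ k : K, (I k).ideal E' hE') ≤ (⨆ k : K, (I k).ideal E hE).map _
    rw [Ideal.map_iSup]
    exact iSup_mono fun k => hI k g hE hE'
  have hJJ : J' = J := by
    obtain ⟨Z', -, i', hi'⟩ := CutOut.exists_isCutOutBy X.property hJ'qc
    refine le_antisymm' (fun E hE => iSup_le fun k => hle k E hE)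
      (le_of_atlas a (show IsCutOutBy J c from ⟨hc, rfl⟩) hi' fun f hf => ?_)
    obtain ⟨k, hk⟩ := hex {f} fun g hg => by rwa [Finset.mem_singleton.1 hg]
    exact Submodule.mem_iSup_of_mem k (hk f (Finset.mem_singleton_self f))
  obtain ⟨D, t, cn, hcn, e, h1, h2, h3⟩ := exists_limit_of_iSup I hmono Z i hi (J := J) (W := W) (c := c)
    (fun E hE => by rw [← hJJ]) ⟨hc, rfl⟩
  refine ⟨K, inferInstance, inferInstance, inferInstance, D, t, cn, hcn, e, fun j => ?_, h1, fun j => ?_, h3⟩
  · obtain ⟨θ, -⟩ := h2 j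
    rw [θ]
    exact hZ _
  · exact concl_of_cut a (hi j.unop) (hfg j.unop a.U a.aff) t₀ (fun f hf => (hval j.unop).ge (j.unop.2.1 f hf)) (h2 j)

/-- The finite type parts of an ideal sheaf. -/
theorem exists_limit_fp [QuasiSeparatedSpace ↥S] (hqc : IsQuasiCompactSp X.obj) (hqs : IsQuasiSeparatedSp X.obj)
    {W : Sp S} {c : W ⟶ X.obj} (hc : RepWith @IsClosedImmersion c) :
    ∃ (K : Type u) (_ : Preorder K) (_ : IsDirected K (fun a b => a ≤ b)) (_ : Nonempty K) (D : Kᵒᵖ ⥤ Sp S)
      (t : D ⟶ (Functor.const Kᵒᵖ).obj X.obj) (cn : Cone D) (_ : IsLimit cn) (e : cn.pt ≅ W),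
      (∀ i, IsAlgSpace (D.obj i)) ∧ (∀ (i j : Kᵒᵖ) (φ : i ⟶ j), RepWith @IsClosedImmersion (D.map φ)) ∧
      (∀ i, RepWith @IsClosedImmersion (t.app i) ∧ IsFinitePresentationMor (t.app i)) ∧
      (∀ i, e.inv ≫ cn.π.app i ≫ t.app i = c) := by
  obtain ⟨a⟩ := nonempty_atlas X hqc hqs
  obtain ⟨K, hK, hd, hn, D, t, cn, hcn, e, h0, h1, h2, h3⟩ := exists_limit_fp_atlas hqc hqs hc a ∅
    fun f hf => absurd hf (Finset.notMem_empty f)
  exact ⟨K, hK, hd, hn, D, t, cn, hcn, e, h0, h1, fun i => ⟨(h2 i).choose, (h2 i).choose_spec.1⟩, h3⟩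

end Groth.L23.ChevGen
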