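import Groth.Agent.L23.CutOutLe
import Groth.Agent.L23.GlobSec
import Groth.Agent.L23.ChevNoeth
import Groth.Agent.L23.QsTop
import Groth.Agent.L23.Compact
import Groth.Agent.S0593
import Groth.Agent.S10006
import Mathlib.CategoryTheory.Filtered.Basic
import Mathlib.Order.Zorn

/-!
# Closed subspaces: affine products and unions of chains
-/

universe u

open CategoryTheory CategoryTheory.Limits AlgebraicGeometry Opposite AlgSp TopologicalSpace

set_option autoImplicit false
set_option linter.style.haveILetI false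
set_option backward.isDefEq.respectTransparency false
set_option backward.isDefEq.respectTransparency.types false

noncomputable section

namespace Groth.L23.ChevGen

open Groth.L23.GlobSec

variable {S : Scheme.{u}}

theorem exists_factor_of_pointwise {W Z X : Sp S} (i : Z ⟶ X) [Mono i] (f : W ⟶ X)
    (h : ∀ (T : Over S) (x : (yon S).obj T ⟶ W), ∃ k, k ≫ i = x ≫ f) : ∃ k, k ≫ i = f := by
  have hinj : ∀ T : (Over S)ᵒᵖ, Function.Injective (i.hom.app T) := fun T a b e => by
    obtain ⟨a, rfl⟩ := (J S).uliftYonedaEquiv.{u + 1}.surjective a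
    obtain ⟨b, rfl⟩ := (J S).uliftYonedaEquiv.{u + 1}.surjective b
    have e' := (((J S).uliftYonedaEquiv_comp a i).trans e).trans ((J S).uliftYonedaEquiv_comp b i).symm
    exact congrArg _ ((cancel_mono i).1 ((J S).uliftYonedaEquiv.{u + 1}.injective e'))
  have hex : ∀ (T : (Over S)ᵒᵖ) (w : W.obj.obj T), ∃ z, i.hom.app T z = f.hom.app T w := fun T w => by
    obtain ⟨x, rfl⟩ := (J S).uliftYonedaEquiv.{u + 1}.surjective w
    obtain ⟨k, hk⟩ := h T.unop x
    exact ⟨(J S).uliftYonedaEquiv k, (((J S).uliftYonedaEquiv_comp k i).symm.trans (congrArg _ hk)).trans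
      ((J S).uliftYonedaEquiv_comp x f)⟩
  choose g hg using hex
  refine ⟨⟨{ app := fun T => TypeCat.ofHom (g T), naturality := fun T T' φ => ?_ }⟩, ?_⟩
  · ext w
    apply hinj
    show i.hom.app T' (g T' (W.obj.map φ w)) = i.hom.app T' (Z.obj.map φ (g T w))
    rw [hg, NatTrans.naturality_apply i.hom φ, hg, ← NatTrans.naturality_apply f.hom φ]
  · ext T w
    exact hg T w

variable {X : AlgSp.Space S}

/-- Finite surjective images of affine schemes have affine fibre products. -/
theorem isAffine_fibre {D : Over S} [IsAffine D.left] {q : (yon S).obj D ⟶ X.obj} (hfa : RepWith @IsFinite q)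
    (hs : RepWith @Surjective q) {U V P : Over S} [IsAffine U.left] [IsAffine V.left] {a : (yon S).obj U ⟶ X.obj}
    {b : (yon S).obj V ⟶ X.obj} {fst : P ⟶ U} {snd : P ⟶ V}
    (sq : IsPullback ((yon S).map fst) ((yon S).map snd) a b) : IsAffine P.left := by
  obtain ⟨A, tA, pA, sA⟩ := exists_isPullback_of_representable (X.property.representable_from_yon q) a
  obtain ⟨B, tB, pB, sB⟩ := exists_isPullback_of_representable (X.property.representable_from_yon q) b
  obtain ⟨R, tR, pR, sR⟩ := exists_isPullback_of_representable (X.property.representable_from_yon q) ((yon S).map fst ≫ a)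
  haveI : IsFinite pA.left := repWith_prop hfa sA
  haveI : IsFinite pB.left := repWith_prop hfa sB
  haveI : IsFinite pR.left := repWith_prop hfa sR
  haveI : Surjective pR.left := repWith_prop hs sR
  haveI : IsAffine A.left := isAffine_of_isAffineHom pA.left
  haveI : IsAffine B.left := isAffine_of_isAffineHom pB.left
  obtain ⟨lA, hlA⟩ := (yon S).map_surjective (sA.lift ((yon S).map tR) ((yon S).map (pR ≫ fst)) (by
    rw [Functor.map_comp, Category.assoc, sR.w]))
  have e1 : lA ≫ tA = tR := (yon S).map_injective (by rw [Functor.map_comp, hlA, IsPullback.lift_fst])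
  have e2 : lA ≫ pA = pR ≫ fst := (yon S).map_injective (by rw [Functor.map_comp, hlA, IsPullback.lift_snd])
  obtain ⟨lB, hlB⟩ := (yon S).map_surjective (sB.lift ((yon S).map tR) ((yon S).map (pR ≫ snd)) (by
    rw [Functor.map_comp, Category.assoc, ← sq.w, sR.w]))
  have e3 : lB ≫ tB = tR := (yon S).map_injective (by rw [Functor.map_comp, hlB, IsPullback.lift_fst])
  have e4 : lB ≫ pB = pR ≫ snd := (yon S).map_injective (by rw [Functor.map_comp, hlB, IsPullback.lift_snd])
  have sL : IsPullback ((yon S).map lA) ((yon S).map pR) ((yon S).map pA) ((yon S).map fst) := by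
    refine IsPullback.of_right ?_ (by rw [← Functor.map_comp, ← Functor.map_comp, e2]) sA
    rw [← Functor.map_comp, e1]
    exact sR
  have sT : IsPullback ((yon S).map lB) ((yon S).map lA) ((yon S).map tB) ((yon S).map tA) := by
    refine IsPullback.of_right (h₁₂ := (yon S).map pB) (h₂₂ := q) (v₁₃ := b) ?_
      (by rw [← Functor.map_comp, ← Functor.map_comp, e1, e3]) sB.flip
    rw [← Functor.map_comp, e4, Functor.map_comp, sA.w]
    exact (sL.flip.paste_horiz sq.flip)
  haveI : IsAffine (pullback ((Over.forget S).map tB) ((Over.forget S).map tA)) :=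
    inferInstanceAs (IsAffine (pullback tB.left tA.left))
  haveI : IsAffine R.left := IsAffine.of_isIso
    ((IsPullback.of_map (yon S) (by rw [e1, e3]) sT).map (Over.forget S)).isoPullback.hom
  exact Groth.Agent.S0593.result R.left P.left pR.left

section CutOut

variable {Z Z' : Sp S} {i : Z ⟶ X.obj} {i' : Z' ⟶ X.obj} {I I' : IdealEt X.obj}

/-- Quasi-coherent families are compared on the atlas. -/
theorem le_of_atlas (a : Atlas X.obj) (h : IsCutOutBy I i) (h' : IsCutOutBy I' i')
    (hle : I.ideal a.U a.aff ≤ I'.ideal a.U a.aff) : I ≤ I' := by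
  haveI := a.aff
  have hp : RepWith @Etale a.U.obj.hom := a.U.property
  have hps : RepWith @Surjective a.U.obj.hom := repWith_surjective_of_map (X.property.representable_from_yon _)
    fun x => by
      obtain ⟨e, he⟩ := a.surj x
      exact ⟨_, (Points.ofPt_eq_map_ofScheme _ e).symm.trans he⟩
  refine (CutOut.le_iff_exists_factor X.property h h').2 (CutOut.exists_factor_of_ker_le h'.choose h.choose hp hps ?_)
  haveI : IsAffine a.U.obj.left.left := a.aff
  haveI := repWith_snd (CutOut.repWith_quasiCompact_of_closedImmersion h.choose) a.U.obj.hom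
  haveI := repWith_snd (CutOut.repWith_quasiCompact_of_closedImmersion h'.choose) a.U.obj.hom
  refine Scheme.IdealSheafData.le_of_isAffine ?_
  show CutOut.top _ ≤ CutOut.top _
  rw [CutOut.top_ker, CutOut.top_ker]
  have h1 := congrArg (fun J : IdealEt X.obj => J.ideal a.U a.aff) h.choose_spec
  have h2 := congrArg (fun J : IdealEt X.obj => J.ideal a.U a.aff) h'.choose_spec
  exact (h1.le.trans hle).trans h2.ge

theorem closedImmersion_of_comp (hi : RepWith @IsClosedImmersion i) (hi' : RepWith @IsClosedImmersion i')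
    {k : Z' ⟶ Z} (hk : k ≫ i = i') : RepWith @IsClosedImmersion k := by
  haveI := mono_of_closedImmersion hi
  have sq : IsPullback (𝟙 Z') k i' i := IsPullback.mk' (by rw [Category.id_comp, hk])
    (fun T a b e _ => by simpa using e) fun T p r e => ⟨p, by simp, (cancel_mono i).1 (by rw [Category.assoc, hk, e])⟩
  exact repWith_of_isPullback sq hi'

theorem qc_qs_of_closedImmersion (hZ : IsAlgSpace Z) (hqc : IsQuasiCompactSp X.obj)
    (hqs : IsQuasiSeparatedSp X.obj) (hi : RepWith @IsClosedImmersion i) :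
    IsQuasiCompactSp Z ∧ IsQuasiSeparatedSp Z := by
  haveI := mono_of_closedImmersion hi
  refine ⟨?_, Qs.isQuasiSeparatedSp_of_mono hqs i⟩
  obtain ⟨U, p, he, hs, hU⟩ := hqc
  have sq := hi.1.isPullback p
  haveI : IsClosedImmersion (hi.1.snd p).left := repWith_snd hi p
  haveI : CompactSpace (hi.1.pullback p).left := QuasiCompact.compactSpace_of_compactSpace (hi.1.snd p).left
  exact ⟨_, hi.1.fst p, repWith_of_isPullback sq.flip he, repWith_of_isPullback sq.flip hs, inferInstance⟩

theorem le_antisymm' {I I' : IdealEt X.obj} (h : I ≤ I') (h' : I' ≤ I) : I = I' :=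
  IdealEt.ext (funext fun E => funext fun hE => le_antisymm (h E hE) (h' E hE))

theorem isCutOutBy_precomp_iso (h : IsCutOutBy I i) (e : Z' ≅ Z) : IsCutOutBy I (e.hom ≫ i) := by
  have hc : RepWith @IsClosedImmersion (e.hom ≫ i) := MorphismProperty.RespectsIso.precomp _ _ _ h.choose
  refine ⟨hc, le_antisymm' ((CutOut.le_iff_exists_factor X.property ⟨hc, rfl⟩ h).2 ⟨e.inv, e.inv_hom_id_assoc i⟩)
    ((CutOut.le_iff_exists_factor X.property h ⟨hc, rfl⟩).2 ⟨e.hom, rfl⟩)⟩

theorem bot_isQCoh : (⊥ : IdealEt X.obj).IsQCoh := fun E E' g hE hE' => bot_le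

theorem idealOfRep_isIso (f : Z ⟶ X.obj) [IsIso f] (hf : Representable f) : idealOfRep hf = ⊥ := by
  refine le_antisymm' (fun E hE a ha => ?_) fun E hE => bot_le
  haveI := hE
  let φ := E.obj.hom
  have hb : IsIso ((yon S).map (hf.snd φ)) := (hf.isPullback φ).isIso_snd_of_isIso
  haveI : IsIso (hf.snd φ) := isIso_of_fully_faithful (yon S) _
  haveI : IsIso (hf.snd φ).left := inferInstanceAs (IsIso ((Over.forget S).map (hf.snd φ)))
  have ha' : (hf.snd φ).left.appTop.hom a = 0 := ha
  exact (map_eq_zero_iff _ (ConcreteCategory.bijective_of_isIso (hf.snd φ).left.appTop).1).1 ha'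

end CutOut

/-- The closed subspace cut out by a quasi-coherent ideal sheaf is not affine. -/
def NonAff (I : IdealEt X.obj) : Prop :=
  I.IsQCoh ∧ ∀ (T : Over S), IsAffine T.left → ∀ c : (yon S).obj T ⟶ X.obj, ¬ IsCutOutBy I c

set_option maxHeartbeats 3200000 in
/-- Non-affineness passes to directed unions. -/
theorem exists_upper_bound [QuasiSeparatedSpace ↥S] (hqc : IsQuasiCompactSp X.obj)
    (hqs : IsQuasiSeparatedSp X.obj) (C : Set {I : IdealEt X.obj // NonAff I})
    (hC : DirectedOn (fun I I' => I.1 ≤ I'.1) C) (hne : C.Nonempty) :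
    ∃ J : {I : IdealEt X.obj // NonAff I}, (∀ I ∈ C, I.1 ≤ J.1) ∧
      ∀ E hE, J.1.ideal E hE = ⨆ I : C, I.1.1.ideal E hE := by
  obtain ⟨a⟩ := nonempty_atlas X hqc hqs
  let J : IdealEt X.obj :=
    { ideal := fun E hE => ⨆ I : C, I.1.1.ideal E hE
      map_le := fun {E E'} g hE hE' => by
        rw [Ideal.map_iSup]
        exact iSup_mono fun I => I.1.1.map_le g hE hE' }
  have hJ : J.IsQCoh := fun E E' g hE hE' => by
    show (⨆ I : C, I.1.1.ideal E' hE') ≤ (⨆ I : C, I.1.1.ideal E hE).map _
    rw [Ideal.map_iSup]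
    exact iSup_mono fun I => I.1.2.1 g hE hE'
  have hle : ∀ I ∈ C, I.1 ≤ J := fun I hI E hE => le_iSup (fun I : C => I.1.1.ideal E hE) ⟨I, hI⟩
  refine ⟨⟨J, hJ, fun T hT c hc => ?_⟩, hle, fun E hE => rfl⟩
  let K := {j : Ideal Γ(a.U.obj.left.left, ⊤) // ∃ I ∈ C, I.1.ideal a.U a.aff = j}
  choose ι hιC hι using fun j : K => j.2
  choose Z hZ i hi using fun j : K => CutOut.exists_isCutOutBy X.property (ι j).2.1
  have hιle : ∀ {j j' : K}, j ≤ j' → (ι j).1 ≤ (ι j').1 := fun {j j'} h =>
    le_of_atlas a (hi j) (hi j') (by rw [hι, hι]; exact h)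
  choose k hk using fun (j j' : K) (h : j ≤ j') =>
    (CutOut.le_iff_exists_factor X.property (hi j) (hi j')).1 (hιle h)
  choose kJ hkJ using fun j : K => (CutOut.le_iff_exists_factor X.property (hi j) hc).1 (hle _ (hιC j))
  haveI hmono : ∀ j : K, Mono (i j) := fun j => mono_of_closedImmersion (hi j).choose
  haveI : Mono c := mono_of_closedImmersion hc.choose
  let D : Kᵒᵖ ⥤ Sp S :=
    { obj := fun j => Z j.unop
      map := fun {j j'} f => k j'.unop j.unop (leOfHom f.unop)
      map_id := fun j => (cancel_mono (i j.unop)).1 (by rw [hk, Category.id_comp])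
      map_comp := fun {j j' j''} f g => (cancel_mono (i j''.unop)).1 (by rw [hk, Category.assoc, hk, hk]) }
  let cn : Cone D :=
    { pt := (yon S).obj T
      π := { app := fun j => kJ j.unop
             naturality := fun j j' f => (cancel_mono (i j'.unop)).1 (by
               show (𝟙 _ ≫ kJ j'.unop) ≫ _ = (kJ j.unop ≫ k _ _ _) ≫ _
               rw [Category.id_comp, hkJ, Category.assoc, hk, hkJ]) } }
  obtain ⟨I₀, hI₀⟩ := hne
  haveI : Nonempty K := ⟨⟨_, I₀, hI₀, rfl⟩⟩
  haveI : IsDirected K (· ≤ ·) := ⟨fun j j' => by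
    obtain ⟨I, hI, h1, h2⟩ := hC (ι j) (hιC j) (ι j') (hιC j')
    exact ⟨⟨_, I, hI, rfl⟩, by rw [← Subtype.coe_le_coe, ← hι j]; exact h1 a.U a.aff,
      by rw [← Subtype.coe_le_coe, ← hι j']; exact h2 a.U a.aff⟩⟩
  haveI : IsFiltered K := isFiltered_of_directed_le_nonempty K
  have hfac : ∀ s : Cone D, ∃ l : s.pt ⟶ (yon S).obj T, ∀ j, l ≫ kJ j.unop = s.π.app j := fun s => by
    let j₀ : Kᵒᵖ := op (Classical.arbitrary K)
    let f := s.π.app j₀ ≫ i j₀.unop
    have hf : ∀ j, s.π.app j ≫ i j.unop = f := fun j => by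
      obtain ⟨m, h1, h2⟩ := directed_of (· ≤ ·) j.unop j₀.unop
      have w1 := s.w (homOfLE h1).op
      have w2 : s.π.app (op m) ≫ k j₀.unop m h2 = s.π.app j₀ := s.w (homOfLE h2).op
      change s.π.app (op m) ≫ k j.unop m h1 = s.π.app j at w1
      rw [← w1, Category.assoc, hk]
      show _ = s.π.app j₀ ≫ i j₀.unop
      rw [← w2, Category.assoc, hk]
    obtain ⟨l, hl⟩ := exists_factor_of_pointwise c f fun U x => by
      refine (CutOut.exists_factor_iff_le X.property hc _ (X.property.representable_from_yon _)).2 fun E hE => ?_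
      refine iSup_le fun I => ?_
      obtain ⟨ZI, -, iI, hiI⟩ := CutOut.exists_isCutOutBy X.property I.1.2.1
      obtain ⟨j, hj⟩ : ∃ j : K, I.1.1.ideal a.U a.aff = (j : Ideal Γ(a.U.obj.left.left, ⊤)) :=
        ⟨⟨_, I.1, I.2, rfl⟩, rfl⟩
      have h1 : I.1.1 ≤ (ι j).1 := le_of_atlas a hiI (hi j) (le_of_eq (hj.trans (hι j).symm))
      have h2 : (ι j).1 ≤ idealOfRep (X.property.representable_from_yon (x ≫ f)) :=
        (CutOut.exists_factor_iff_le X.property (hi j) (x ≫ f) (X.property.representable_from_yon _)).1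
          ⟨x ≫ s.π.app (op j), by rw [Category.assoc, hf (op j)]⟩
      exact (h1 E hE).trans (h2 E hE)
    exact ⟨l, fun j => (cancel_mono (i j.unop)).1 (by rw [Category.assoc, hkJ, hl, hf])⟩
  choose l hl using hfac
  have hlim : IsLimit cn :=
    { lift := l
      fac := hl
      uniq := fun s m hm => (cancel_mono c).1 (by
        rw [← hkJ (Classical.arbitrary K), ← Category.assoc, ← Category.assoc, hl s (op (Classical.arbitrary K))]
        exact congrArg (· ≫ i _) (hm (op (Classical.arbitrary K)))) }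
  obtain ⟨j, T', hT', ⟨e⟩⟩ := Groth.Agent.S10006.result S D (fun j => hZ j.unop)
    (fun j j' f => Groth.L23.isAffineMor_iff.2
      (repWith_mono (fun φ (_ : IsClosedImmersion φ) => inferInstanceAs (IsAffineHom φ))
        (closedImmersion_of_comp (hi j'.unop).choose (hi j.unop).choose (hk _ _ _))))
    (fun j => (qc_qs_of_closedImmersion (hZ j.unop) hqc hqs (hi j.unop).choose).1)
    (fun j => (qc_qs_of_closedImmersion (hZ j.unop) hqc hqs (hi j.unop).choose).2)
    cn hlim T hT (Iso.refl _)
  exact (ι j.unop).2.2 T' hT' (e.hom ≫ i j.unop) (isCutOutBy_precomp_iso (hi j.unop) e)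

end Groth.L23.ChevGen
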