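import Groth.Agent.L23.ModEtGroth
import Groth.Agent.S10736
import Groth.Agent.S10079
import Groth.Agent.L09.EtSub.SubObj
import Groth.Prelude.Def_AlgSpOX
import Mathlib.Algebra.Category.ModuleCat.Sheaf.Colimits
import Mathlib.Algebra.Category.ModuleCat.Presheaf.Colimits
import Mathlib.CategoryTheory.Limits.FilteredColimitCommutesFiniteLimit

/-!
# Cohomology of filtered colimits of modules
-/

universe u v

open CategoryTheory CategoryTheory.Limits AlgebraicGeometry Opposite AlgSp

set_option autoImplicit false
set_option linter.style.haveILetI false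
set_option backward.isDefEq.respectTransparency false
set_option backward.isDefEq.respectTransparency.types false

noncomputable section

namespace Groth.L23.ChevGen

variable {C : Type v} [Category.{u} C] {J : GrothendieckTopology C} (R : Sheaf J RingCat.{v})
  [HasSheafify J AddCommGrpCat.{v}] [J.WEqualsLocallyBijective AddCommGrpCat.{v}]

set_option maxHeartbeats 800000 in
/-- The underlying abelian sheaf commutes with colimits of sheaves of modules. -/
theorem preservesColimit_toSheaf {K : Type v} [SmallCategory K] (F : K ⥤ SheafOfModules.{v} R)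
    [HasColimitsOfShape K (PresheafOfModules.{v} R.obj)]
    [PreservesColimitsOfShape K (PresheafOfModules.toPresheaf.{v} R.obj)] :
    PreservesColimit F (SheafOfModules.toSheaf.{v} R) := by
  let G := F ⋙ SheafOfModules.forget R
  let L := PresheafOfModules.sheafification.{v} (𝟙 R.obj)
  let e : G ⋙ L ≅ F := Functor.isoWhiskerLeft F
    (asIso (PresheafOfModules.sheafificationAdjunction (𝟙 R.obj)).counit)
  haveI : PreservesColimit G (L ⋙ SheafOfModules.toSheaf.{v} R) :=
    preservesColimit_of_natIso G (PresheafOfModules.sheafificationCompToSheaf (𝟙 R.obj)).symm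
  have h : PreservesColimit (G ⋙ L) (SheafOfModules.toSheaf.{v} R) :=
    preservesColimit_of_preserves_colimit_cocone (isColimitOfPreserves L (colimit.isColimit G))
      (isColimitOfPreserves (L ⋙ SheafOfModules.toSheaf.{v} R) (colimit.isColimit G))
  haveI := h
  exact preservesColimit_of_iso_diagram _ e

variable {S : Scheme.{u}}

set_option maxHeartbeats 800000 in
/-- Vanishing of cohomology passes to filtered colimits. -/
theorem subsingleton_h_of_colimit [QuasiSeparatedSpace ↥S] (X : AlgSp.Space S) (hqc : IsQuasiCompactSp X.obj)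
    (hqs : IsQuasiSeparatedSp X.obj) (n : ℕ) {K : Type (u + 1)} [SmallCategory K] [IsFiltered K]
    (D : K ⥤ ModEt X.obj) (c : Cocone D) (hc : IsColimit c) (h : ∀ k, Subsingleton (HModEt X.obj (D.obj k) n)) :
    Subsingleton (HModEt X.obj c.pt n) := by
  haveI := preservesColimit_toSheaf (OEtRing X.obj) D
  haveI := Groth.Agent.S10736.result X hqc hqs K n
  have hc' := isColimitOfPreserves (toAbEt X.obj) hc
  have hc'' := isColimitOfPreserves (HEtF X.obj n ⋙ forget AddCommGrpCat.{u + 1}) hc'
  have h0 : ∀ x : HModEt X.obj c.pt n, x = 0 := fun x => by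
    obtain ⟨k, y, hy⟩ := Types.jointly_surjective _ hc'' x
    rw [← hy]
    haveI : Subsingleton ((HEtF X.obj n).obj ((toAbEt X.obj).obj (D.obj k))) := h k
    show ((HEtF X.obj n).map ((toAbEt X.obj).map (c.ι.app k))).hom y = 0
    rw [Subsingleton.elim (show ((HEtF X.obj n).obj ((toAbEt X.obj).obj (D.obj k)) : Type (u + 1)) from y) 0]
    exact map_zero _
  exact ⟨fun x y => (h0 x).trans (h0 y).symm⟩

set_option maxHeartbeats 800000 in
/-- Vanishing of cohomology may be tested on the submodules of finite type. -/
theorem subsingleton_h_of_submodules [QuasiSeparatedSpace ↥S] (X : AlgSp.Space S) (hqc : IsQuasiCompactSp X.obj)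
    (hqs : IsQuasiSeparatedSp X.obj) (n : ℕ) (M : ModEt X.obj) [M.IsQuasicoherent]
    (h : ∀ (N : ModEt X.obj) (f : N ⟶ M), Mono f → N.IsQuasicoherent → N.IsFiniteType →
      Subsingleton (HModEt X.obj N n)) : Subsingleton (HModEt X.obj M n) := by
  haveI := Groth.L23.ModEtGroth.isGrothendieckAbelian (X := X.obj)
  haveI : WellPowered.{u + 1} (AlgSp.ModEt X.obj) := IsGrothendieckAbelian.wellPowered.{u + 1} (AlgSp.ModEt X.obj)
  haveI : LocallySmall.{u + 1} (AlgSp.ModEt X.obj) := IsGrothendieckAbelian.locallySmall
  let P : ObjectProperty (Subobject M) := fun N =>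
    (Subobject.underlying.obj N).IsQuasicoherent ∧ (Subobject.underlying.obj N).IsFiniteType
  let ι : P.ι ⋙ Subobject.underlying ⟶ (Functor.const P.FullSubcategory).obj M :=
    { app := fun N => N.obj.arrow
      naturality := fun A B f => by
        show Subobject.underlying.map f.hom ≫ B.obj.arrow = A.obj.arrow ≫ 𝟙 M
        rw [Category.comp_id, Subobject.underlying_arrow] }
  obtain ⟨hfil, ⟨hc⟩⟩ := Groth.Agent.S10079.result X hqc hqs M P rfl ι fun _ => rfl
  haveI := hfil
  haveI : Small.{u + 1} (Subobject M) := WellPowered.subobject_small M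
  haveI : EssentiallySmall.{u + 1} P.FullSubcategory := by
    haveI : EssentiallySmall.{u + 1} (Subobject M) := by
      rw [essentiallySmall_iff_of_thin]
      exact small_of_surjective (f := fun N : Subobject M => toSkeleton N) Quotient.mk_surjective
    exact essentiallySmall_of_fully_faithful P.ι
  let e := equivSmallModel.{u + 1} P.FullSubcategory
  haveI : IsFiltered (SmallModel.{u + 1} P.FullSubcategory) := IsFiltered.of_equivalence e
  exact subsingleton_h_of_colimit X hqc hqs n _ _ (hc.whiskerEquivalence e.symm) fun k =>
    h _ ((e.inverse.obj k).obj.arrow) inferInstance (e.inverse.obj k).property.1 (e.inverse.obj k).property.2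

end Groth.L23.ChevGen
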