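import Groth.Agent.L23.ChevGen.TFExist
import Groth.Agent.L23.IdealFt
import Groth.Agent.L23.SiteFacts
import Groth.Agent.L23.Decent3
import Groth.Agent.L23.CohSupport
import Groth.Agent.L23.SubQcoh
import Groth.Agent.L09.ModEt.WeakAss
import Groth.Agent.L09.ModEt.Push
import Groth.Agent.L09.EtSub.Faith
import Groth.Agent.S10350
import Groth.Agent.S10339

/-!
# Torsion at the generic point of an integral space
-/

universe u

open CategoryTheory CategoryTheory.Limits AlgebraicGeometry Opposite AlgSp TopologicalSpace TensorProduct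

set_option autoImplicit false
set_option linter.style.haveILetI false
set_option backward.isDefEq.respectTransparency false
set_option backward.isDefEq.respectTransparency.types false

noncomputable section

namespace Groth.L23.ChevGen

open Groth.L09.ModEt Groth.L23.SubQcoh

variable {S : Scheme.{u}} (X : AlgSp.Space S) (η : Points X.obj)

/-- The generic primes of an object. -/
def Gen (E : EtOver X.obj) : Set (PrimeSpectrum (Γ₀ E)) :=
  {P | ∃ e : ↥E.obj.left.left, Points.ofPt E.obj.hom e = η ∧ primeAtPt E.obj.left.left e = P.asIdeal}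

/-- A space with a dense point, reduced, with finite fibres over points. -/
structure Setting : Prop where
  qs : IsQuasiSeparatedSp X.obj
  red : IsReducedSp X.obj
  gen : IsGenericPoint η (Set.univ : Set (Points X.obj))

variable {X η}

theorem isGeneric_exists (hqs : IsQuasiSeparatedSp X.obj) [IrreducibleSpace (Points X.obj)] :
    ∃ η : Points X.obj, IsGenericPoint η (Set.univ : Set (Points X.obj)) := by
  haveI := Groth.Agent.S10339.result X (Groth.Agent.S10350.result X hqs)
  exact QuasiSober.sober (IrreducibleSpace.isIrreducible_univ _) isClosed_univ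

theorem mem_fibre_of_mem (hG : Setting X η) {E : EtOver X.obj} {O : E.obj.left.left.Opens} {e : E.obj.left.left}
    (he : e ∈ O) : ∃ e' ∈ O, Points.ofPt E.obj.hom e' = η := by
  have hopen : IsOpen (Points.ofPt E.obj.hom '' (O : Set E.obj.left.left)) :=
    Groth.L23.isOpenMap_ofPt E.property _ O.isOpen
  obtain ⟨e', he', h⟩ : η ∈ Points.ofPt E.obj.hom '' (O : Set E.obj.left.left) :=
    (hG.gen.specializes (Set.mem_univ _)).mem_open hopen ⟨e, he, rfl⟩
  exact ⟨e', he', h⟩

theorem finite_gen (hG : Setting X η) (E : EtOver X.obj) [IsAffine E.obj.left.left] : (Gen X η E).Finite := by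
  obtain ⟨p, hp, hm, hq⟩ := Groth.Agent.S10350.result X hG.qs η
  haveI := hm
  have hf := (Groth.L23.Pt.qc_iff_finite_fibres X.property p).1 hq E.obj.left E.obj.hom inferInstance E.property
  rw [hp] at hf
  refine (hf.image fun e => (⟨primeAtPt E.obj.left.left e, (E.obj.left.left.toSpecΓ e).isPrime⟩ :
    PrimeSpectrum (Γ₀ E))).subset ?_
  rintro P ⟨e, he, heP⟩
  exact ⟨e, he, PrimeSpectrum.ext heP⟩

theorem specializes_of_le {E : EtOver X.obj} [IsAffine E.obj.left.left] {e e' : E.obj.left.left}
    (h : primeAtPt E.obj.left.left e' ≤ primeAtPt E.obj.left.left e) : e' ⤳ e := by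
  have h' : E.obj.left.left.toSpecΓ e' ⤳ E.obj.left.left.toSpecΓ e := (PrimeSpectrum.le_iff_specializes _ _).1 h
  exact (Scheme.Hom.homeomorph E.obj.left.left.toSpecΓ).isInducing.specializes_iff.1 h'

theorem field_gen (hG : Setting X η) (E : EtOver X.obj) [IsAffine E.obj.left.left] :
    ∀ P ∈ Gen X η E, IsField (Localization.AtPrime P.asIdeal) := by
  rintro P ⟨e, he, heP⟩
  haveI := Groth.L23.Supp.isReduced_obj hG.red E
  refine isField_localization P ⟨⟨P.isPrime, bot_le⟩, ?_⟩
  rintro Q ⟨hQ, -⟩ hle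
  haveI := hQ
  obtain ⟨e', he'⟩ := exists_primeAtPt E.obj.left.left Q
  have hspec : e' ⤳ e := specializes_of_le (by rw [he', heP]; exact hle)
  haveI := Groth.L23.Pt.t0Space_of_isDecent X.property (Groth.Agent.S10350.result X hG.qs)
  have h1 : Points.ofPt E.obj.hom e' ⤳ η := he ▸ hspec.map (Points.continuous_ofPt _)
  have h2 : Points.ofPt E.obj.hom e' = η := (h1.antisymm (hG.gen.specializes (Set.mem_univ _))).eq
  have := Groth.L23.Pt.eq_of_specializes_of_isDecent X.property (Groth.Agent.S10350.result X hG.qs) E.property e e'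
    (he.trans h2.symm) hspec
  rw [← heP, this, he']

theorem comap_mem_gen {E E' : EtOver X.obj} (g : E' ⟶ E) {Q : PrimeSpectrum (Γ₀ E')} (hQ : Q ∈ Gen X η E') :
    (⟨Q.asIdeal.comap (pb g), Ideal.IsPrime.comap _⟩ : PrimeSpectrum (Γ₀ E)) ∈ Gen X η E := by
  obtain ⟨e, he, heQ⟩ := hQ
  refine ⟨g.hom.left.left e, ?_, ?_⟩
  · rw [← Groth.L09.EtMV.ofPt_map g, he]
  · show _ = Q.asIdeal.comap (pb g)
    rw [← heQ]
    exact (Groth.L09.ModEt.comap_primeAtPt g.hom.left.left e).symm

theorem mem_gen_of_comap {E E' : EtOver X.obj} [IsAffine E.obj.left.left] [IsAffine E'.obj.left.left] (g : E' ⟶ E)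
    {P : PrimeSpectrum (Γ₀ E)} (hP : P ∈ Gen X η E) {Q : PrimeSpectrum (Γ₀ E')}
    (hQ : Q.asIdeal.comap (pb g) = P.asIdeal) : Q ∈ Gen X η E' := by
  obtain ⟨e, he, heP⟩ := hP
  obtain ⟨e', he'⟩ := exists_primeAtPt E'.obj.left.left Q.asIdeal
  refine ⟨e', ?_, he'⟩
  have hge : g.hom.left.left e' = e := primeAtPt_injective E.obj.left.left (by
    rw [← Groth.L09.ModEt.comap_primeAtPt, he', heP]
    exact hQ)
  rw [Groth.L09.EtMV.ofPt_map g e', hge, he]

/-- A function vanishing at the generic primes vanishes. -/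
theorem eq_zero_of_gen (hG : Setting X η) (E : EtOver X.obj) [IsAffine E.obj.left.left] (f : Γ₀ E)
    (h : ∀ P ∈ Gen X η E, f ∈ P.asIdeal) : f = 0 := by
  haveI := Groth.L23.Supp.isReduced_obj hG.red E
  refine (basicOpen_eq_bot_iff f).1 (Opens.ext (Set.eq_empty_of_forall_notMem fun e he => ?_))
  obtain ⟨e', he', hη⟩ := mem_fibre_of_mem hG (O := E.obj.left.left.basicOpen f) he
  have hf : f ∈ primeAtPt E.obj.left.left e' :=
    h ⟨_, (E.obj.left.left.toSpecΓ e').isPrime⟩ ⟨e', hη, rfl⟩
  rw [Scheme.mem_basicOpen_top] at he'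
  exact (IsLocalRing.mem_maximalIdeal _).1 hf he'

variable {M : ModEt X.obj}

theorem θ_smul {E E' : EtOver X.obj} (g : E' ⟶ E) (c : Γ₀ E')
    (y : letI := (pb g).toAlgebra; Γ₀ E' ⊗[Γ₀ E] sectModEt M E) :
    θ M g (letI := (pb g).toAlgebra; c • y) = c • θ M g y := by
  letI := (pb g).toAlgebra
  induction y using TensorProduct.induction_on with
  | zero => simp
  | tmul b m => rw [TensorProduct.smul_tmul', θ_tmul, θ_tmul, smul_eq_mul, mul_smul]
  | add a b ha hb => rw [smul_add, map_add, map_add, ha, hb, smul_add]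

theorem isTor_res {E E' : EtOver X.obj} (g : E' ⟶ E) {s : sectModEt M E} (hs : IsTor (Gen X η E) s) :
    IsTor (Gen X η E') (res M g s) := fun Q hQ => by
  obtain ⟨r, hr, hrs⟩ := hs _ (comap_mem_gen g hQ)
  exact ⟨pb g r, hr, by rw [← res_smul, hrs, map_zero]⟩

theorem mem_span_tor (hG : Setting X η) [M.IsQuasicoherent] {E E' : EtOver X.obj} [IsAffine E.obj.left.left]
    [IsAffine E'.obj.left.left] (g : E' ⟶ E) {z : sectModEt M E'} (hz : IsTor (Gen X η E') z) :
    z ∈ Submodule.span (Γ₀ E') (res M g '' (tor (Gen X η E) (sectModEt M E) : Set (sectModEt M E))) := by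
  letI := (pb g).toAlgebra
  haveI : Module.Flat (Γ₀ E) (Γ₀ E') := flat_pb g
  haveI := Groth.L23.Supp.isReduced_obj hG.red E'
  obtain ⟨y, rfl⟩ := (bc_of_isQuasicoherent M g).2 z
  have hy : IsTor (Gen X η E') y := fun Q hQ => by
    obtain ⟨r, hr, hry⟩ := hz Q hQ
    exact ⟨r, hr, (bc_of_isQuasicoherent M g).1 (by rw [θ_smul, hry, map_zero])⟩
  obtain ⟨w, rfl⟩ := mem_range_tor (finite_gen hG E) (field_gen hG E)
    (fun P hP Q hQ => mem_gen_of_comap g hP hQ) y hy
  clear hy hz
  induction w using TensorProduct.induction_on with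
  | zero => rw [map_zero, map_zero]; exact zero_mem _
  | tmul b m => rw [LinearMap.lTensor_tmul, θ_tmul]; exact Submodule.smul_mem _ b (Submodule.subset_span ⟨m.1, m.2, rfl⟩)
  | add a b ha hb => rw [map_add, map_add]; exact add_mem ha hb

/-- The torsion submodule. -/
def torSub (hG : Setting X η) (M : ModEt X.obj) [M.IsQuasicoherent] : AffSub M where
  P E _ := tor (Gen X η E) (sectModEt M E)
  res_mem g _ hs := isTor_res g hs
  mem_span g _ hz := mem_span_tor hG g hz

/-- All sections on affine objects are torsion. -/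
def TorAll (η : Points X.obj) (M : ModEt X.obj) : Prop :=
  ∀ (E : EtOver X.obj) [IsAffine E.obj.left.left] (s : sectModEt M E), IsTor (Gen X η E) s

/-- No section on an affine object is torsion. -/
def TorFree (η : Points X.obj) (M : ModEt X.obj) : Prop :=
  ∀ (E : EtOver X.obj) [IsAffine E.obj.left.left] (s : sectModEt M E), IsTor (Gen X η E) s → s = 0

theorem torAll_torSub (hG : Setting X η) [M.IsQuasicoherent] : TorAll η (torSub hG M).mod := fun E _ s P hP => by
  haveI := (torSub hG M).isQuasicoherent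
  obtain ⟨r, hr, hrs⟩ : ∃ r ∉ P.asIdeal, r • sapp (torSub hG M).ι E s = 0 :=
    ((torSub hG M).range_ι E).le ⟨s, rfl⟩ P hP
  exact ⟨r, hr, injective_sapp_of_mono (torSub hG M).ι E (by rw [map_smul, hrs, map_zero])⟩

/-- The annihilator ideal of a module of finite type. -/
def annIdeal (M : ModEt X.obj) [M.IsQuasicoherent] [M.IsFiniteType] : IdealEt X.obj where
  ideal E _ := Module.annihilator (Γ₀ E) (sectModEt M E)
  map_le {E E'} g hE hE' := by
    haveI := hE
    haveI := hE'
    rw [Ideal.map_le_iff_le_comap]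
    intro a ha
    refine Ideal.mem_comap.2 (Module.mem_annihilator.2 fun z => ?_)
    letI := (pb g).toAlgebra
    obtain ⟨y, rfl⟩ := (bc_of_isQuasicoherent M g).2 z
    induction y using TensorProduct.induction_on with
    | zero => rw [map_zero, smul_zero]
    | tmul b m =>
      rw [θ_tmul, smul_comm]
      show b • pb g a • res M g m = 0
      rw [← res_smul, Module.mem_annihilator.1 ha m, map_zero, smul_zero]
    | add y y' hy hy' => rw [map_add, smul_add, hy, hy', add_zero]

theorem annIdeal_isQCoh (M : ModEt X.obj) [M.IsQuasicoherent] [M.IsFiniteType] : (annIdeal M).IsQCoh := by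
  intro E E' g hE hE' x hx
  haveI := hE
  haveI := hE'
  letI := (pb g).toAlgebra
  haveI : Module.Flat (Γ₀ E) (Γ₀ E') := flat_pb g
  haveI := finite_sectModEt M E
  refine mem_map_annihilator (C := Γ₀ E') (θ M g) (bc_of_isQuasicoherent M g).1 (fun c c' m => ?_) fun m => ?_
  · rw [θ_tmul, θ_tmul, mul_smul]
  · exact Module.mem_annihilator.1 hx _

theorem exists_notMem_annihilator (hG : Setting X η) [M.IsQuasicoherent] [M.IsFiniteType] (hM : TorAll η M)
    {E : EtOver X.obj} [IsAffine E.obj.left.left] {P : PrimeSpectrum (Γ₀ E)} (hP : P ∈ Gen X η E) :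
    ∃ f ∈ Module.annihilator (Γ₀ E) (sectModEt M E), f ∉ P.asIdeal := by
  classical
  haveI := finite_sectModEt M E
  obtain ⟨T, hT⟩ := Module.finite_def.1 ‹Module.Finite (Γ₀ E) (sectModEt M E)›
  choose f hf hf' using fun s : sectModEt M E => hM E s P hP
  refine ⟨∏ s ∈ T, f s, Module.mem_annihilator.2 fun m => ?_, fun h => ?_⟩
  · have hm : m ∈ Submodule.span (Γ₀ E) (T : Set (sectModEt M E)) := hT.ge trivial
    induction hm using Submodule.span_induction with
    | mem y hy =>
      obtain ⟨c, hc⟩ := Finset.dvd_prod_of_mem f hy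
      rw [hc, mul_comm, mul_smul, hf', smul_zero]
    | zero => exact smul_zero _
    | add a b _ _ ha hb => rw [smul_add, ha, hb, add_zero]
    | smul a y _ hy => rw [smul_comm, hy, smul_zero]
  · obtain ⟨s, -, hs⟩ := P.isPrime.prod_mem_iff.1 h
    exact hf s hs

end Groth.L23.ChevGen
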