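import Groth.Agent.L23.ChevGen.Sep
import Mathlib.AlgebraicGeometry.AffineSpace

/-!
# Affine space over a space
-/

universe u

open CategoryTheory CategoryTheory.Limits AlgebraicGeometry Opposite AlgSp TopologicalSpace MorphismProperty

set_option autoImplicit false
set_option linter.style.haveILetI false
set_option backward.isDefEq.respectTransparency false
set_option backward.isDefEq.respectTransparency.types false

noncomputable section

namespace Groth.L23.ChevGen

variable {S : Scheme.{u}} {n : Type u}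

/-- Affine space over a scheme over the base. -/
abbrev aff (W : Over S) (n : Type u) : Over S := Over.mk ((𝔸(n; W.left) ↘ W.left) ≫ W.hom)

/-- Its projection. -/
abbrev affπ (W : Over S) (n : Type u) : aff W n ⟶ W := Over.homMk (𝔸(n; W.left) ↘ W.left) rfl

/-- The coordinates. -/
abbrev coordV (W : Over S) (i : n) : Γ((aff W n).left, ⊤) := AffineSpace.coord W.left i

/-- Maps into it. -/
def vecHom {T W : Over S} (x : T ⟶ W) (v : n → Γ(T.left, ⊤)) : T ⟶ aff W n :=
  Over.homMk (AffineSpace.homOfVector x.left v) (by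
    show AffineSpace.homOfVector x.left v ≫ (𝔸(n; W.left) ↘ W.left) ≫ W.hom = T.hom
    rw [AffineSpace.homOfVector_over_assoc, Over.w x])

theorem vecHom_π {T W : Over S} (x : T ⟶ W) (v : n → Γ(T.left, ⊤)) : vecHom x v ≫ affπ W n = x :=
  Over.OverMorphism.ext (AffineSpace.homOfVector_over _ _)

theorem vecHom_coord {T W : Over S} (x : T ⟶ W) (v : n → Γ(T.left, ⊤)) (i : n) :
    (vecHom x v).left.appTop.hom (coordV W i) = v i :=
  AffineSpace.homOfVector_appTop_coord _ _ _

theorem aff_hom_ext {T W : Over S} {a b : T ⟶ aff W n} (h₁ : a ≫ affπ W n = b ≫ affπ W n)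
    (h₂ : ∀ i, a.left.appTop.hom (coordV W i) = b.left.appTop.hom (coordV W i)) : a = b :=
  Over.OverMorphism.ext (AffineSpace.hom_ext (congrArg CommaMorphism.left h₁) h₂)

/-- The affine space over a space. -/
abbrev affSp (Y : Sp S) (n : Type u) : Sp S := Y ⨯ (yon S).obj (aff (Over.mk (𝟙 S)) n)

variable {Y : Sp S}

/-- A point of affine space over a space. -/
def mkPt {T : Over S} (y : (yon S).obj T ⟶ Y) (v : n → Γ(T.left, ⊤)) : (yon S).obj T ⟶ affSp Y n :=
  prod.lift y ((yon S).map (vecHom (Over.homMk T.hom (Category.comp_id _)) v))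

theorem mkPt_fst {T : Over S} (y : (yon S).obj T ⟶ Y) (v : n → Γ(T.left, ⊤)) : mkPt y v ≫ prod.fst = y :=
  prod.lift_fst _ _

theorem map_mkPt {T' T : Over S} (x : T' ⟶ T) (y : (yon S).obj T ⟶ Y) (v : n → Γ(T.left, ⊤)) :
    (yon S).map x ≫ mkPt y v = mkPt ((yon S).map x ≫ y) fun i => x.left.appTop.hom (v i) := by
  refine prod.hom_ext (by rw [Category.assoc, mkPt_fst, mkPt_fst]) ?_
  rw [mkPt, mkPt, Category.assoc, prod.lift_snd, prod.lift_snd, ← Functor.map_comp]
  congr 1
  refine aff_hom_ext ?_ fun i => ?_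
  · exact Over.mkIdTerminal.hom_ext _ _
  · rw [vecHom_coord, Over.comp_left, Scheme.Hom.comp_appTop, CommRingCat.hom_comp, RingHom.comp_apply, vecHom_coord]

theorem mkPt_inj {T : Over S} {y y' : (yon S).obj T ⟶ Y} {v v' : n → Γ(T.left, ⊤)} (h : mkPt y v = mkPt y' v') :
    y = y' ∧ v = v' := by
  refine ⟨by rw [← mkPt_fst y v, h, mkPt_fst], funext fun i => ?_⟩
  have h2 := congrArg (· ≫ (prod.snd : affSp Y n ⟶ _)) h
  simp only [mkPt, prod.lift_snd] at h2
  rw [← vecHom_coord (Over.homMk T.hom (Category.comp_id _) : T ⟶ Over.mk (𝟙 S)) v i, (yon S).map_injective h2, vecHom_coord]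

theorem exists_mkPt {T : Over S} (u : (yon S).obj T ⟶ affSp Y n) : ∃ v, u = mkPt (u ≫ prod.fst) v := by
  obtain ⟨k, hk⟩ := (yon S).map_surjective (u ≫ prod.snd)
  refine ⟨fun i => k.left.appTop.hom (coordV _ i), prod.hom_ext (mkPt_fst _ _).symm ?_⟩
  rw [mkPt, prod.lift_snd, ← hk]
  congr 1
  refine aff_hom_ext (Over.mkIdTerminal.hom_ext _ _) fun i => ?_
  rw [vecHom_coord]

/-- The chart of affine space over a chart. -/
abbrev affChart {V : Over S} (v : (yon S).obj V ⟶ Y) (n : Type u) : (yon S).obj (aff V n) ⟶ affSp Y n :=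
  mkPt ((yon S).map (affπ V n) ≫ v) (coordV V)

theorem isPullback_affChart {V : Over S} (v : (yon S).obj V ⟶ Y) :
    IsPullback (affChart v n) ((yon S).map (affπ V n)) prod.fst v := by
  refine UHPush.isPullback_of_yon (mkPt_fst _ _) ?_ ?_
  · intro Z k k' h₁ h₂
    obtain ⟨k, rfl⟩ := (yon S).map_surjective k
    obtain ⟨k', rfl⟩ := (yon S).map_surjective k'
    rw [map_mkPt, map_mkPt] at h₁
    rw [← Functor.map_comp, ← Functor.map_comp] at h₂
    exact congrArg _ (aff_hom_ext ((yon S).map_injective h₂) fun i => congrFun (mkPt_inj h₁).2 i)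
  · intro Z u x hux
    obtain ⟨x, rfl⟩ := (yon S).map_surjective x
    obtain ⟨w, hw⟩ := exists_mkPt u
    refine ⟨(yon S).map (vecHom x w), ?_, by rw [← Functor.map_comp, vecHom_π]⟩
    rw [map_mkPt, hw, ← Category.assoc, ← Functor.map_comp, vecHom_π, hux]
    congr 1
    funext i
    exact vecHom_coord x w i

/-- Functions on affine space over an affine scheme are polynomials. -/
def polyHom (V : Over S) : MvPolynomial n Γ(V.left, ⊤) →+* Γ((aff V n).left, ⊤) :=
  MvPolynomial.eval₂Hom (affπ V n).left.appTop.hom (coordV V)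

theorem polyHom_surjective (V : Over S) [IsAffine V.left] : Function.Surjective (polyHom (n := n) V) := by
  have h := AffineSpace.isoOfIsAffine_hom_appTop (n := n) V.left
  have hb : Function.Bijective (AffineSpace.isoOfIsAffine n V.left).hom.appTop.hom :=
    ConcreteCategory.bijective_of_isIso (AffineSpace.isoOfIsAffine n V.left).hom.appTop
  intro x
  obtain ⟨y, rfl⟩ := hb.2 x
  exact ⟨(Scheme.ΓSpecIso _).hom.hom y, (congrArg (fun φ => φ.hom y) h).symm⟩

theorem map_polyHom {T V : Over S} (m : T ⟶ aff V n) (P : MvPolynomial n Γ(V.left, ⊤)) :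
    m.left.appTop.hom (polyHom V P) = MvPolynomial.eval₂ (m ≫ affπ V n).left.appTop.hom
      (fun i => m.left.appTop.hom (coordV V i)) P := by
  rw [polyHom, MvPolynomial.coe_eval₂Hom, MvPolynomial.eval₂_comp_left, Over.comp_left, Scheme.Hom.comp_appTop,
    CommRingCat.hom_comp]
  rfl

end Groth.L23.ChevGen
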