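import Groth.Agent.L23.ChevGen.TFAlg

/-!
# Maps into torsion-free modules along two presentations of a pushout
-/

universe u v

open TensorProduct

set_option autoImplicit false
set_option linter.style.haveILetI false

noncomputable section

namespace Groth.L23.ChevGen

open Groth.L23

variable {R C De Dp : Type u} [CommRing R] [CommRing C] [CommRing De] [CommRing Dp] [Algebra R C] [Algebra R De]
  [Algebra C Dp] [Algebra De Dp] [Algebra R Dp] [IsScalarTower R C Dp] [IsScalarTower R De Dp]
  [Algebra.IsPushout R C De Dp]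
  {N : Type v} [AddCommGroup N] [Module R N] {N' : Type v} [AddCommGroup N'] [Module C N']
  (ε : N →+ N') [Module.Finite R De] [Module.Flat R C] {G : Set (PrimeSpectrum R)}
  {D D' : Type u} [CommRing D] [CommRing D'] [Algebra D D'] [Algebra D De] [Algebra D' Dp] [Algebra D Dp]
  [IsScalarTower D D' Dp] [IsScalarTower D De Dp] [Algebra.IsPushout D D' De Dp]

set_option maxHeartbeats 800000 in
/-- The same base change, along another presentation of the pushout. -/
theorem bijective_twist (hG : G.Finite) (hfield : ∀ p ∈ G, IsField (Localization.AtPrime p.asIdeal))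
    (htf : ∀ n : N, IsTor G n → n = 0)
    (htf' : ∀ z : N', (∀ p ∈ G, ∃ r ∉ p.asIdeal, algebraMap R C r • z = 0) → z = 0)
    (hε : ∀ (r : R) (n : N), ε (r • n) = algebraMap R C r • ε n)
    (θ : C ⊗[R] N →+ N') (hθ : Function.Bijective θ) (hθε : ∀ c n, θ (c ⊗ₜ n) = c • ε n)
    (r : (De →ₗ[R] N) → (Dp →ₗ[C] N')) (hr : ∀ φ e, r φ (algebraMap De Dp e) = ε (φ e)) :
    letI := HomBC.domModVia R De N D
    ∀ (Φ : D' ⊗[D] (De →ₗ[R] N) →+ (Dp →ₗ[C] N'))
      (_ : ∀ d φ, Φ (d ⊗ₜ φ) = (r φ).comp (LinearMap.mulLeft C (algebraMap D' Dp d))),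
      Function.Bijective Φ := by
  letI := HomBC.domModVia R De N D
  intro Φ hΦ
  letI iL := HomBC.domMod R De N
  letI iP := HomBC.domMod C Dp N'
  haveI : IsScalarTower D De (De →ₗ[R] N) := ⟨fun d e φ => LinearMap.ext fun x => by
    show φ ((d • e) * x) = φ (e * (algebraMap D De d * x))
    rw [Algebra.smul_def, mul_assoc, mul_left_comm]⟩
  haveI : IsScalarTower R De (De →ₗ[R] N) := ⟨fun a e φ => LinearMap.ext fun x => by
    show φ ((a • e) * x) = a • φ (e * x)
    rw [Algebra.smul_mul_assoc, map_smul]⟩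
  have hadd : ∀ φ φ', r (φ + φ') = r φ + r φ' := fun φ φ' => (HomBC.ext_gen R (De := De)) fun e => by
    rw [LinearMap.add_apply, hr, hr, hr, LinearMap.add_apply, map_add]
  have hsemi : ∀ (e : De) φ, r (e • φ) = algebraMap De Dp e • r φ := fun e φ =>
    (HomBC.ext_gen R (De := De)) fun x => by
      rw [hr]
      show ε (φ (e * x)) = r φ (algebraMap De Dp e * algebraMap De Dp x)
      rw [← map_mul, hr]
  let Ψ : Dp ⊗[De] (De →ₗ[R] N) →+ (Dp →ₗ[C] N') := TensorProduct.liftAddHom
    (AddMonoidHom.mk' (fun z : Dp => AddMonoidHom.mk' (fun φ => z • r φ) fun φ φ' => by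
        show z • r (φ + φ') = _
        rw [hadd, smul_add])
      fun z z' => AddMonoidHom.ext fun φ => add_smul z z' (r φ))
    fun e z φ => by
      show (e • z) • r φ = z • r (e • φ)
      rw [hsemi, ← mul_smul, Algebra.smul_def, mul_comm]
  have hΨ : Function.Bijective Ψ := by
    let eC := Algebra.IsPushout.cancelBaseChange R C De Dp (De →ₗ[R] N)
    let Φ₁ : C ⊗[R] (De →ₗ[R] N) →+ (Dp →ₗ[C] N') := Ψ.comp eC.symm.toLinearMap.toAddMonoidHom
    have h₁ := ChevGen.bijective_hom ε hG hfield htf htf' hε θ hθ hθε r hr Φ₁ fun c φ => by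
      show Ψ (eC.symm (c ⊗ₜ φ)) = _
      rw [Algebra.IsPushout.cancelBaseChange_symm_tmul]
      refine LinearMap.ext fun x => ?_
      show r φ (algebraMap C Dp c * x) = c • r φ x
      rw [← Algebra.smul_def, map_smul]
    rw [show (Ψ : _ → _) = Φ₁ ∘ eC from funext fun x => by
      show Ψ x = Ψ (eC.symm (eC x))
      rw [LinearEquiv.symm_apply_apply]]
    exact h₁.comp eC.bijective
  let eD := Algebra.IsPushout.cancelBaseChange D D' De Dp (De →ₗ[R] N)
  rw [show (Φ : _ → _) = Ψ ∘ eD.symm from funext fun x => by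
    induction x using TensorProduct.induction_on with
    | zero => simp
    | tmul d φ =>
      show Φ (d ⊗ₜ φ) = Ψ (eD.symm (d ⊗ₜ φ))
      rw [hΦ, Algebra.IsPushout.cancelBaseChange_symm_tmul]
      rfl
    | add x y hx hy => simp only [map_add, Function.comp_apply, hx, hy]]
  exact hΨ.comp eD.symm.bijective

end Groth.L23.ChevGen
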