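import Groth.Agent.L23.HomDesc
import Groth.Agent.L23.ChevGen.GenPts
import Groth.Agent.L23.ChevGen.TFTwist

/-!
# Non-zero maps into a torsion-free module out of the direct image of a finite surjective affine scheme
-/

universe u

open CategoryTheory CategoryTheory.Limits AlgebraicGeometry Opposite AlgSp TensorProduct

set_option autoImplicit false
set_option linter.style.haveILetI false
set_option backward.isDefEq.respectTransparency false
set_option backward.isDefEq.respectTransparency.types false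

noncomputable section

namespace Groth.L23.ChevGen

open Groth.L09.ModEt Groth.L23.GlobSec Groth.L23.HomDesc
open scoped Groth.L23.HomDesc

variable {S : Scheme.{u}} {X : AlgSp.Space S} {η : Points X.obj} {D : Over S} {q : (yon S).obj D ⟶ X.obj}
  (hq : Representable q) (Q : ModEt X.obj) (hfa : RepWith @IsFinite q)

section Prod

variable {E : EtOver X.obj} [IsAffine E.obj.left.left] (a : Atlas X.obj) [IsAffine D.left]

set_option maxHeartbeats 1600000 in
theorem bijective_μ (hG : Setting X η) (hTF : TorFree η Q) [Q.IsQuasicoherent]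
    [IsAffine (EtOver.prodObj a.U E).obj.left.left] :
    Function.Bijective (μ (E := E) hq Q hfa a) := by
  let P := EtOver.prodObj a.U E
  let f₁ := EtOver.prodFst a.U E
  let f₂ := EtOver.prodSnd a.U E
  haveI := finite_bc hq hfa E
  letI := (pb f₂).toAlgebra
  letI := (pb (EtOver.bcMap hq f₂)).toAlgebra
  letI : Algebra (Γ₀ E) (Γ₀ (EtOver.bcObj hq P)) := ((πbc hq P).comp (pb f₂)).toAlgebra
  obtain ⟨h₁, h₂, h₃⟩ := isPushout_bc hq hfa f₂
  haveI := h₁; haveI := h₂; haveI := h₃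
  haveI : Module.Flat (Γ₀ E) (Γ₀ P) := flat_pb f₂
  letI := (pb (EtOver.bcMap hq f₁)).toAlgebra
  haveI : IsScalarTower Γ(D.left, ⊤) (Γ₀ (EtOver.bcObj hq a.U)) (Γ₀ (EtOver.bcObj hq P)) :=
    IsScalarTower.of_algebraMap_eq fun d => (pb_algD hq f₁ d).symm
  haveI : IsScalarTower Γ(D.left, ⊤) (Γ₀ (EtOver.bcObj hq E)) (Γ₀ (EtOver.bcObj hq P)) :=
    IsScalarTower.of_algebraMap_eq fun d => (pb_algD hq f₂ d).symm
  haveI : Algebra.IsPushout Γ(D.left, ⊤) (Γ₀ (EtOver.bcObj hq a.U)) (Γ₀ (EtOver.bcObj hq E))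
      (Γ₀ (EtOver.bcObj hq P)) := CommRingCat.isPushout_iff_isPushout.1 (isPushout_prod hq hfa a)
  exact ChevGen.bijective_twist (res Q f₂) (G := Gen X η E) (finite_gen hG E) (field_gen hG E) (fun n => hTF E n)
    (fun z hz => hTF P z fun R hR => by
      obtain ⟨r, hr, hrz⟩ := hz _ (comap_mem_gen f₂ hR)
      exact ⟨pb f₂ r, hr, hrz⟩)
    (fun r n => res_smul Q f₂ r n) (θ Q f₂)
    (bc_of_isQuasicoherent Q f₂) (fun c n => θ_tmul Q f₂ c n) (resL hq Q hfa f₂)
    (fun φ e => resL_apply hq Q hfa f₂ φ e) (μ hq Q hfa a) fun d φ => μ_tmul hq Q hfa a d φ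

end Prod

section Main

variable {a : Atlas X.obj} [IsAffine D.left] (hG : Setting X η) (hTF : TorFree η Q)
  (hsurj : RepWith @Surjective q) [Q.IsQuasicoherent] [Q.IsFiniteType]

include hfa hsurj hG hTF in
omit [IsAffine D.left] [Q.IsQuasicoherent] [Q.IsFiniteType] in
/-- Over the atlas there are non-zero maps. -/
theorem exists_L_ne_zero (hne : ∃ s : sectModEt Q a.U, s ≠ 0) : ∃ φ : L hq Q a.U, φ ≠ 0 := by
  obtain ⟨s, hs⟩ := hne
  obtain ⟨p, hp, hsp⟩ : ∃ p ∈ Gen X η a.U, ∀ r ∉ p.asIdeal, r • s ≠ 0 := by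
    by_contra hno
    push Not at hno
    exact hs (hTF a.U s hno)
  haveI := finite_bc hq hfa a.U
  refine exists_map_ne_zero (finite_gen hG a.U) (field_gen hG a.U) (fun n => hTF a.U n) hp (fun r hr h0 => hr ?_) hsp
  haveI : Surjective (EtOver.bcπ hq a.U).left := Groth.L23.repWith_snd hsurj a.U.obj.hom
  obtain ⟨e, -, he⟩ := hp
  obtain ⟨w, hw⟩ := (EtOver.bcπ hq a.U).left.surjective e
  rw [← he, ← hw, ← Groth.L09.ModEt.comap_primeAtPt]
  exact Ideal.mem_comap.2 (by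
    show algebraMap (Γ₀ a.U) (Γ₀ (EtOver.bcObj hq a.U)) r ∈ _
    rw [h0]
    exact zero_mem _)

variable (hP : ∀ (E E' : EtOver X.obj), IsAffine E.obj.left.left → IsAffine E'.obj.left.left →
    IsAffine (EtOver.prodObj E E').obj.left.left)

include hfa hsurj hG hTF hP in
set_option maxHeartbeats 1600000 in
/-- Some non-zero map over the atlas descends. -/
theorem exists_compat (hne : ∃ s : sectModEt Q a.U, s ≠ 0) :
    ∃ φ : L hq Q a.U, φ ≠ 0 ∧ ∀ (W : EtOver X.obj) [IsAffine W.obj.left.left] (g h : W ⟶ a.U),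
      resL hq Q hfa g φ = resL hq Q hfa h φ := by
  let R := EtOver.prodObj a.U a.U
  haveI hR : IsAffine R.obj.left.left := hP _ _ a.aff a.aff
  let PR := EtOver.prodObj a.U R
  haveI hPR : IsAffine PR.obj.left.left := hP _ _ a.aff hR
  let p₁ : R ⟶ a.U := EtOver.prodFst a.U a.U
  let p₂ : R ⟶ a.U := EtOver.prodSnd a.U a.U
  have hlift : ∀ (W : EtOver X.obj) (g h : W ⟶ a.U), ∃ l : W ⟶ R, l ≫ p₁ = g ∧ l ≫ p₂ = h := fun W g h =>
    ⟨(EtOver.prodIsLimit a.U a.U).lift (BinaryFan.mk g h), (EtOver.prodIsLimit a.U a.U).fac _ ⟨.left⟩,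
      (EtOver.prodIsLimit a.U a.U).fac _ ⟨.right⟩⟩
  by_contra hno
  push Not at hno
  obtain ⟨φ, hφ⟩ := exists_L_ne_zero hq Q hfa hG hTF hsurj hne
  let δ : L hq Q a.U →ₗ[Γ(D.left, ⊤)] L hq Q R := resₗ hq Q hfa p₁ - resₗ hq Q hfa p₂
  have hδ : Function.Injective δ := (injective_iff_map_eq_zero δ).2 fun ψ hψ => by
    by_contra h0
    obtain ⟨W, hW, g, h, hgh⟩ := hno ψ h0
    haveI := hW
    obtain ⟨l, rfl, rfl⟩ := hlift W g h
    refine hgh ?_
    rw [resL_comp, resL_comp]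
    exact congrArg _ (sub_eq_zero.1 hψ)
  haveI : Module.Flat Γ(D.left, ⊤) (Γ₀ (EtOver.bcObj hq a.U)) := by
    haveI := isAffine_bc hq hfa a.U
    haveI : Etale (tD hq a.U).left := repWith_prop a.U.property (by
      have := (hq.isPullback a.U.obj.hom).flip
      rwa [show hq.fst a.U.obj.hom = (yon S).map (tD hq a.U) from by rw [tD, Functor.map_preimage]] at this)
    haveI : Flat (tD hq a.U).left := inferInstance
    exact RingHom.flat_algebraMap_iff.1 ((HasRingHomProperty.iff_of_isAffine (P := @Flat)).1 this)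
  have hlT : Function.Injective (δ.lTensor (Γ₀ (EtOver.bcObj hq a.U))) :=
    Module.Flat.lTensor_preserves_injective_linearMap δ hδ
  obtain ⟨y, hy⟩ := (bijective_μ hq Q hfa a (E := a.U) hG hTF).2 (resL hq Q hfa p₁ φ)
  obtain ⟨m₁, hm₁, hm₁'⟩ := hlift PR (EtOver.prodFst a.U R) (EtOver.prodSnd a.U R ≫ p₁)
  obtain ⟨m₂, hm₂, hm₂'⟩ := hlift PR (EtOver.prodFst a.U R) (EtOver.prodSnd a.U R ≫ p₂)
  have key : ∀ z, μ hq Q hfa a (δ.lTensor (Γ₀ (EtOver.bcObj hq a.U)) z) =
      resL hq Q hfa m₁ (μ hq Q hfa a z) - resL hq Q hfa m₂ (μ hq Q hfa a z) := fun z => by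
    induction z using TensorProduct.induction_on with
    | zero =>
      rw [map_zero, map_zero, map_zero]
      exact ((congrArg₂ (· - ·) (resₗ hq Q hfa m₁).map_zero (resₗ hq Q hfa m₂).map_zero).trans (sub_self 0)).symm
    | tmul c ψ =>
      rw [LinearMap.lTensor_tmul, LinearMap.sub_apply, TensorProduct.tmul_sub, map_sub]
      have h1 : ∀ (m : PR ⟶ R) (p : R ⟶ a.U), m ≫ p₁ = EtOver.prodFst a.U R → m ≫ p₂ = EtOver.prodSnd a.U R ≫ p →
          μ hq Q hfa a (c ⊗ₜ[Γ(D.left, ⊤)] resL hq Q hfa p ψ) =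
            resL hq Q hfa m (μ hq Q hfa a (c ⊗ₜ[Γ(D.left, ⊤)] ψ)) := fun m p hm hm' => by
        rw [μ_tmul, μ_tmul, resL_mul, ← pb_bcMap_comp, ← resL_comp, ← resL_comp]
        rw [show m ≫ EtOver.prodFst a.U a.U = EtOver.prodFst a.U R from hm,
          show m ≫ EtOver.prodSnd a.U a.U = EtOver.prodSnd a.U R ≫ p from hm']
      exact congrArg₂ (· - ·) (h1 m₁ p₁ hm₁ hm₁') (h1 m₂ p₂ hm₂ hm₂')
    | add z z' hz hz' =>
      rw [map_add, map_add, hz, hz', map_add, resL_add, resL_add]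
      abel
  have hy0 : y = 0 := by
    refine hlT ((bijective_μ hq Q hfa a (E := R) hG hTF).1 ?_)
    rw [key, hy, ← resL_comp, ← resL_comp, hm₁, hm₂, sub_self, map_zero, map_zero]
  rw [hy0, map_zero] at hy
  obtain ⟨Δ, hΔ, -⟩ := hlift a.U (𝟙 a.U) (𝟙 a.U)
  refine hφ ?_
  have h := congrArg (resL hq Q hfa Δ) hy.symm
  rw [← resL_comp, hΔ, resL_id] at h
  exact h.trans (resₗ hq Q hfa Δ).map_zero

/-- Sections of the direct image as functions. -/
def fnE (V : EtOver X.obj) : sectModEt (MD q hq) V →ₗ[Γ₀ V] Γ₀ (EtOver.bcObj hq V) where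
  toFun x := x.down
  map_add' _ _ := rfl
  map_smul' _ _ := rfl

include hfa hsurj hG hTF hP in
set_option maxHeartbeats 800000 in
/-- A non-zero coherent module receives a non-zero map from the direct image of the functions. -/
theorem exists_hom_ne_zero (hne : ∃ s : sectModEt Q a.U, s ≠ 0) : ∃ ψ : MD q hq ⟶ Q, ψ ≠ 0 := by
  obtain ⟨φ, hφ, hcompat⟩ := ChevGen.exists_compat hq Q hfa hG hTF hsurj hP hne
  let Ψ : ∀ (V : EtOver X.obj), IsAffine V.obj.left.left → (V ⟶ a.U) →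
      (sectModEt (MD q hq) V →ₗ[Γ₀ V] sectModEt Q V) := fun V hV h =>
    haveI := hV
    (resL hq Q hfa h φ).comp (fnE hq V)
  obtain ⟨ψ, hψ⟩ := HomGlue.exists_hom (a := a) (Ψ := Ψ)
    (fun V V' hV hV' g h x => by
      haveI := hV
      haveI := hV'
      show res Q g (resL hq Q hfa h φ (fnE hq V x)) = resL hq Q hfa (g ≫ h) φ (fnE hq V' (res (MD q hq) g x))
      rw [show fnE hq V' (res (MD q hq) g x) = pb (EtOver.bcMap hq g) (fnE hq V x) from rfl, resL_comp, resL_apply])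
    (fun V hV h h' => by
      haveI := hV
      exact congrArg (fun t : L hq Q V => t.comp (fnE hq V)) (hcompat V h h'))
  refine ⟨ψ, fun h0 => hφ (LinearMap.ext fun e => ?_)⟩
  have h := hψ a.U a.aff (𝟙 a.U) (ULift.up e)
  rw [h0, QcClosure.app₀_of_eq_zero _ rfl] at h
  have h2 : (0 : sectModEt Q a.U) = resL hq Q hfa (𝟙 a.U) φ e := h
  rw [resL_id] at h2
  exact h2.symm

end Main

end Groth.L23.ChevGen
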