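import Groth.Agent.L23.ChevGen.Main
import Groth.Agent.L23.ChevGen.Graph

/-!
# Affineness of the image of an affine scheme under a universally closed surjection
-/

universe u

open CategoryTheory CategoryTheory.Limits AlgebraicGeometry Opposite AlgSp TopologicalSpace MorphismProperty

set_option autoImplicit false
set_option linter.style.haveILetI false
set_option backward.isDefEq.respectTransparency false
set_option backward.isDefEq.respectTransparency.types false

noncomputable section

namespace Groth.L23.ChevGen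

open Groth.L23.GlobSec Groth.L23.GenSub

variable {S : Scheme.{u}} [IsAffine S]

/-- Finiteness from generators. -/
theorem finite_of_generators {R C B : Type u} [CommRing R] [CommRing C] [CommRing B] (φ : R →+* C) (ψ : C →+* B)
    {n : Type u} (t : n → C) (s : Finset n) (hsurj : Function.Surjective (MvPolynomial.eval₂Hom φ t))
    (hψ : Function.Injective ψ) (h0 : ∀ i ∉ s, t i = 0) (hint : (ψ.comp φ).IsIntegral) : φ.Finite := by
  letI := φ.toAlgebra
  have hi : ∀ i, IsIntegral R (t i) := fun i => by
    obtain ⟨p, hp, hp'⟩ := hint (ψ (t i))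
    exact ⟨p, hp, hψ ((Polynomial.hom_eval₂ p (algebraMap R C) ψ (t i)).trans (hp'.trans (map_zero ψ).symm))⟩
  have htop : Algebra.adjoin R (t '' (s : Set n)) = ⊤ := by
    refine top_le_iff.1 fun c _ => ?_
    obtain ⟨P, rfl⟩ := hsurj c
    induction P using MvPolynomial.induction_on with
    | C r => rw [MvPolynomial.eval₂Hom_C]; exact Subalgebra.algebraMap_mem _ r
    | add p q hp hq => rw [map_add]; exact add_mem (hp trivial) (hq trivial)
    | mul_X p i hp =>
      rw [map_mul, MvPolynomial.eval₂Hom_X']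
      refine mul_mem (hp trivial) ?_
      by_cases h : i ∈ s
      · exact Algebra.subset_adjoin ⟨i, h, rfl⟩
      · rw [h0 i h]; exact zero_mem _
  show Module.Finite R C
  refine ⟨?_⟩
  rw [← Algebra.top_toSubmodule, ← htop]
  exact fg_adjoin_of_finite (s.finite_toSet.image t) (by rintro _ ⟨i, -, rfl⟩; exact hi i)

set_option maxHeartbeats 1600000 in
/-- The image of an affine scheme under an integral surjection is affine. -/
theorem isAff_of_integral (Y : AlgSp.Space S) (hY : IsSeparatedMor (str Y.obj)) {D : Over S} [IsAffine D.left]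
    (f : (yon S).obj D ⟶ Y.obj) (hint : RepWith @IsIntegralHom f) (hs : RepWith @Surjective f) : IsAff Y.obj := by
  classical
  haveI hone : IsAffine (one S).left := inferInstanceAs (IsAffine S)
  have hfs : Function.Surjective (Points.map f) := surjective_map_of_repWith hs
  obtain ⟨hYqc, hYqs⟩ := qcqs_of_sep Y hY f hfs
  let N : Type u := Γ(D.left, ⊤)
  let A := aff (one S) N
  haveI : IsAffine A.left := inferInstanceAs (IsAffine 𝔸(N; S))
  have sP : IsPullback (prod.fst : affSp Y.obj N ⟶ _) prod.snd (str Y.obj) (str ((yon S).obj A)) :=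
    IsPullback.of_is_product (limit.isLimit _) (Over.mkIdTerminal.isTerminalObj (yon S) (one S))
  let X : AlgSp.Space S := ⟨affSp Y.obj N,
    isAlgSpace_of_isPullback (IsAlgSpace.yon_obj (one S)).diag Y.property (IsAlgSpace.yon_obj A) sP⟩
  obtain ⟨k, hk⟩ := (yon S).map_surjective (str ((yon S).obj A))
  have hp₁ : RepWith @IsAffineHom (prod.fst : affSp Y.obj N ⟶ _) := by
    refine repWith_of_isPullback sP.flip ?_
    rw [← hk]
    exact repWith_map (isAffineHom_of_isAffine k.left)
  have hX : IsSeparatedMor (str X.obj) := by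
    haveI : IsSeparated k.left := by
      haveI := isAffineHom_of_isAffine k.left
      infer_instance
    rw [← comp_str (prod.fst : affSp Y.obj N ⟶ Y.obj)]
    exact separated_comp (separated_of_isPullback sP.flip (by rw [← hk]; exact separated_map k)) hY
  obtain ⟨V₀, p₀, hV₀, hp₀, hps₀⟩ := Qs.exists_affine_atlas Y.property hYqc
  haveI := hV₀
  let E := aff V₀ N
  haveI : IsAffine E.left := inferInstanceAs (IsAffine 𝔸(N; V₀.left))
  have sE := isPullback_affChart (n := N) p₀
  have he : RepWith @Etale (affChart p₀ N) := repWith_of_isPullback sE.flip hp₀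
  have hes : RepWith @Surjective (affChart p₀ N) := repWith_of_isPullback sE.flip hps₀
  obtain ⟨hXqc, hXqs⟩ := qcqs_of_sep X hX (affChart p₀ N) (surjective_map_of_repWith hes)
  haveI := hV₀
  haveI hEa : IsAffine (EtOver.mk (X := X.obj) (affChart p₀ N) he).obj.left.left := inferInstanceAs (IsAffine E.left)
  let a : Atlas X.obj := ⟨EtOver.mk (affChart p₀ N) he, hEa, surjective_ofPt hes,
    fun E' _ => nonempty_pairCover hXqs E' _⟩
  haveI := a.aff
  -- the maps
  let D' := aff D N
  haveI : IsAffine D'.left := inferInstanceAs (IsAffine 𝔸(N; D.left))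
  let π' : D' ⟶ D := affπ D N
  let vh : Finset N → N → Γ(D'.left, ⊤) := fun s i => if i ∈ s then π'.left.appTop.hom i else coordV D i
  let vg : Finset N → N → Γ(D.left, ⊤) := fun s i => if i ∈ s then i else 0
  let h : Finset N → ((yon S).obj D' ⟶ X.obj) := fun s => mkPt ((yon S).map π' ≫ f) (vh s)
  let g : Finset N → ((yon S).obj D ⟶ X.obj) := fun s => mkPt f (vg s)
  let ginf : (yon S).obj D ⟶ X.obj := mkPt f fun i => i
  have hσ : ∀ (s : Finset N) (w : N → Γ(D.left, ⊤)),
      (yon S).map (vecHom (𝟙 D) w) ≫ h s = mkPt f fun i => if i ∈ s then i else w i := fun s w => by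
    rw [map_mkPt, ← Category.assoc, ← Functor.map_comp, vecHom_π, CategoryTheory.Functor.map_id, Category.id_comp]
    congr 1
    funext i
    by_cases hi : i ∈ s
    · simp only [vh, hi, if_true]
      rw [← RingHom.comp_apply, ← CommRingCat.hom_comp, ← Scheme.Hom.comp_appTop, ← Over.comp_left, vecHom_π]
      simp
    · simp only [vh, hi, if_false]
      exact vecHom_coord _ _ _
  have hcomp : ∀ {s s' : Finset N}, s ⊆ s' → ∃ σ, (yon S).map σ ≫ h s = h s' := fun {s s'} hss => by
    refine ⟨vecHom π' (vh s'), ?_⟩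
    rw [map_mkPt, ← Category.assoc, ← Functor.map_comp, vecHom_π]
    congr 1
    funext i
    by_cases hi : i ∈ s
    · simp only [vh, hi, hss hi, if_true]
      rw [← RingHom.comp_apply, ← CommRingCat.hom_comp, ← Scheme.Hom.comp_appTop, ← Over.comp_left, vecHom_π]
    · simp only [vh, hi, if_false]
      exact vecHom_coord _ _ _
  -- their ideals
  have hqc : ∀ {T : Over S} [IsAffine T.left] (b : (yon S).obj T ⟶ X.obj), RepWith @QuasiCompact b := fun {T} _ b =>
    repWith_mono (Q := (@QuasiCompact : MorphismProperty Scheme.{u}))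
      (fun φ (_ : IsAffineHom φ) => inferInstanceAs (QuasiCompact φ)) (affineHom_of_sep hX b)
  let I : Finset N → IdealEt X.obj := fun s => idealOfRep (hqc (h s)).1
  have hI : ∀ s, (I s).IsQCoh := fun s => CutOut.idealOfRep_isQCoh (hqc (h s))
  have hfac : ∀ {T T' : Over S} [IsAffine T.left] [IsAffine T'.left] (b : (yon S).obj T ⟶ X.obj) (σ : T' ⟶ T),
      idealOfRep (hqc b).1 ≤ idealOfRep (hqc ((yon S).map σ ≫ b)).1 := fun {T T'} _ _ b σ => by
    obtain ⟨Z, hZ, i, hi⟩ := CutOut.exists_isCutOutBy X.property (CutOut.idealOfRep_isQCoh (hqc b))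
    obtain ⟨l, hl⟩ := (CutOut.exists_factor_iff_le X.property hi b (hqc b).1).2 fun E hE => le_rfl
    exact (CutOut.exists_factor_iff_le X.property hi _ _).1 ⟨(yon S).map σ ≫ l, by rw [Category.assoc, hl]⟩
  have hmono : ∀ {s s' : Finset N}, s ⊆ s' → I s ≤ I s' := fun {s s'} hss E hE => by
    obtain ⟨σ, hσ'⟩ := hcomp hss
    have := hfac (h s) σ E hE
    simp only [hσ'] at this
    exact this
  -- some `I s` cuts out an affine subspace
  obtain ⟨s, T, hT, c, hc⟩ : ∃ (s : Finset N) (T : Over S) (_ : IsAffine T.left) (c : (yon S).obj T ⟶ X.obj),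
      IsCutOutBy (I s) c := by
    by_contra hno
    have hNA : ∀ s, NonAff (I s) := fun s => ⟨hI s, fun T hT c hc => hno ⟨s, T, hT, c, hc⟩⟩
    let C : Set {J : IdealEt X.obj // NonAff J} := Set.range fun s => ⟨I s, hNA s⟩
    obtain ⟨J, hJ, hJeq⟩ := exists_upper_bound hXqc hXqs C (by
      rintro _ ⟨s, rfl⟩ _ ⟨s', rfl⟩
      exact ⟨⟨I (s ∪ s'), hNA _⟩, ⟨_, rfl⟩, hmono Finset.subset_union_left, hmono Finset.subset_union_right⟩)
      ⟨_, ∅, rfl⟩
    have hgi : RepWith @IsClosedImmersion ginf := by
      refine repWith_of_comp_diagonal (q := (prod.snd : affSp Y.obj N ⟶ _)) ?_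
        (separated_of_isPullback sP (by exact hY))
      rw [show ginf ≫ prod.snd = (yon S).map (vecHom (Over.homMk D.hom (Category.comp_id _) : D ⟶ one S) fun i : N => i)
        from prod.lift_snd _ _]
      refine repWith_map ?_
      haveI : IsClosedImmersion (vecHom (Over.homMk D.hom (Category.comp_id _) : D ⟶ one S) fun i : N => i).left := by
        exact IsClosedImmersion.of_surjective_of_isAffine _ fun x : N => ⟨coordV (one S) x, vecHom_coord _ _ x⟩
      infer_instance
    refine J.2.2 D inferInstance ginf ⟨hgi, ?_⟩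
    obtain ⟨Z, hZ, i, hi⟩ := CutOut.exists_isCutOutBy X.property J.2.1
    refine le_antisymm' ?_ ?_
    · refine le_of_atlas a (show IsCutOutBy (idealOfRep hgi.1) ginf from ⟨hgi, rfl⟩) hi fun r hr => ?_
      obtain ⟨P, rfl⟩ := polyHom_surjective V₀ r
      rw [hJeq]
      refine Submodule.mem_iSup_of_mem ⟨_, P.vars, rfl⟩ ?_
      let s := P.vars
      let w := (hqc (h s)).1.snd (affChart p₀ N)
      let fs := (hqc (h s)).1.fst (affChart p₀ N)
      show w.left.appTop.hom (polyHom V₀ P) = 0
      obtain ⟨fs', hfs⟩ := (yon S).map_surjective fs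
      have hw : (yon S).map fs' ≫ h s = (yon S).map w ≫ affChart p₀ N := by
        rw [hfs]; exact ((hqc (h s)).1.isPullback _).w
      rw [map_mkPt, map_mkPt] at hw
      obtain ⟨hw₁, hw₂⟩ := mkPt_inj hw
      let v : N → Γ(((hqc (h s)).1.pullback (affChart p₀ N)).left, ⊤) := fun i => (fs' ≫ π').left.appTop.hom i
      let w' := vecHom (w ≫ affπ V₀ N) v
      have hcomm : (yon S).map (fs' ≫ π') ≫ ginf = (yon S).map w' ≫ affChart p₀ N := by
        rw [map_mkPt, map_mkPt, ← Category.assoc ((yon S).map w'), ← Functor.map_comp, vecHom_π]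
        congr 1
        funext i
        exact (vecHom_coord _ _ _).symm
      have hl := hgi.1.lift_snd ((yon S).map (fs' ≫ π')) w' hcomm
      have h0 : w'.left.appTop.hom (polyHom V₀ P) = 0 := by
        rw [← hl, Over.comp_left, Scheme.Hom.comp_appTop, CommRingCat.hom_comp, RingHom.comp_apply,
          show (hgi.1.snd (affChart p₀ N)).left.appTop.hom (polyHom V₀ P) = 0 from hr, map_zero]
      rw [map_polyHom] at h0 ⊢
      rw [vecHom_π] at h0
      refine Eq.trans ?_ h0
      refine MvPolynomial.eval₂_congr _ _ _ ?_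
      intro i c hic hc
      rw [vecHom_coord]
      have hi : i ∈ s := (MvPolynomial.mem_vars_iff_mem_support i).2 ⟨c, MvPolynomial.mem_support_iff.2 hc, hic⟩
      have := congrFun hw₂ i
      simp only [vh, hi, if_true] at this
      rw [← this]
      rfl
    · intro E hE
      rw [hJeq]
      refine iSup_le fun ⟨J', s, hs⟩ => ?_
      subst hs
      refine le_trans (hfac (h s) (vecHom (𝟙 D) fun i => i) E hE) ?_
      simp only [hσ, ite_self]
      exact le_rfl
  haveI := hT
  -- the finite piece
  obtain ⟨Z, hZ, i, hi⟩ := CutOut.exists_isCutOutBy X.property (CutOut.idealOfRep_isQCoh (hqc (g s)))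
  obtain ⟨l, hl⟩ := (CutOut.exists_factor_iff_le X.property hi (g s) (hqc (g s)).1).2 fun E hE => le_rfl
  have hZT : IsAff Z := by
    have hle : I s ≤ idealOfRep (hqc (g s)).1 := fun E hE => by
      refine le_trans (hfac (h s) (vecHom (𝟙 D) fun _ => 0) E hE) ?_
      simp only [hσ]
      exact le_rfl
    obtain ⟨m, hm⟩ := (CutOut.le_iff_exists_factor X.property hc hi).1 hle
    have hmc := closedImmersion_of_comp hc.choose hi.choose hm
    have sq := hmc.1.isPullback (𝟙 ((yon S).obj T))
    haveI : IsIso (hmc.1.fst (𝟙 ((yon S).obj T))) := sq.isIso_fst_of_isIso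
    haveI : IsClosedImmersion (hmc.1.snd (𝟙 ((yon S).obj T))).left := repWith_snd hmc _
    exact ⟨_, isAffine_of_isAffineHom (hmc.1.snd (𝟙 ((yon S).obj T))).left, ⟨asIso (hmc.1.fst (𝟙 _))⟩⟩
  let z : Z ⟶ Y.obj := i ≫ prod.fst
  have hz : RepWith @IsAffineHom z := repWith_comp
    (repWith_mono (fun φ (_ : IsClosedImmersion φ) => inferInstanceAs (IsAffineHom φ)) hi.choose) hp₁
  have hzf : RepWith @IsFinite z := by
    have sZ := (hi.choose.1.isPullback (affChart p₀ N)).paste_vert sE
    rw [← Functor.map_comp] at sZ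
    refine repWith_of_atlas hz.1 hp₀ hps₀ sZ ?_
    let u := hi.choose.1.snd (affChart p₀ N)
    let w := (hqc (g s)).1.snd (affChart p₀ N)
    haveI : IsClosedImmersion u.left := repWith_snd hi.choose _
    haveI : IsAffine (hi.choose.1.pullback (affChart p₀ N)).left := isAffine_of_isAffineHom u.left
    obtain ⟨ψ, hψ⟩ := (yon S).map_surjective ((hi.choose.1.isPullback (affChart p₀ N)).lift
      ((hqc (g s)).1.fst (affChart p₀ N) ≫ l) ((yon S).map w) (by rw [Category.assoc, hl, ((hqc (g s)).1.isPullback _).w]))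
    have hψu : ψ ≫ u = w := (yon S).map_injective (by rw [Functor.map_comp, hψ, IsPullback.lift_snd])
    have hker : RingHom.ker u.left.appTop.hom = RingHom.ker w.left.appTop.hom :=
      congrArg (fun J : IdealEt X.obj => J.ideal a.U a.aff) hi.choose_spec
    have hu : Function.Surjective u.left.appTop.hom := by
      exact ((HasAffineProperty.iff_of_isAffine (P := @IsClosedImmersion)).1 ‹IsClosedImmersion u.left›).2
    haveI : IsFinite (u ≫ affπ V₀ N).left := by
      refine (HasAffineProperty.iff_of_isAffine (P := @IsFinite)).2 ⟨inferInstance, ?_⟩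
      refine finite_of_generators _ ψ.left.appTop.hom (fun i => u.left.appTop.hom (coordV V₀ i)) s
        (fun x => ?_) (fun x y hxy => ?_) (fun i hi' => ?_) ?_
      · obtain ⟨r, rfl⟩ := hu x
        obtain ⟨P, rfl⟩ := polyHom_surjective V₀ r
        exact ⟨P, (map_polyHom u P).symm⟩
      · obtain ⟨x, rfl⟩ := hu x
        obtain ⟨y, rfl⟩ := hu y
        rw [← sub_eq_zero, ← map_sub, ← RingHom.mem_ker, hker, RingHom.mem_ker]
        rw [← hψu, Over.comp_left, Scheme.Hom.comp_appTop, CommRingCat.hom_comp, RingHom.comp_apply, map_sub, map_sub,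
          sub_eq_zero]
        exact hxy
      · obtain ⟨fs, hfs⟩ := (yon S).map_surjective ((hqc (g s)).1.fst (affChart p₀ N))
        have hw : (yon S).map fs ≫ g s = (yon S).map w ≫ affChart p₀ N := by
          rw [hfs]; exact ((hqc (g s)).1.isPullback _).w
        rw [map_mkPt, map_mkPt] at hw
        have := congrFun (mkPt_inj hw).2 i
        simp only [vg, hi', if_false, map_zero] at this
        show coordV V₀ i ∈ RingHom.ker u.left.appTop.hom
        rw [hker]
        exact this.symm
      · rw [← CommRingCat.hom_comp, ← Scheme.Hom.comp_appTop, ← Over.comp_left, reassoc_of% hψu]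
        have sR := ((hqc (g s)).1.isPullback (affChart p₀ N)).paste_vert sE
        rw [← Functor.map_comp, show g s ≫ prod.fst = f from mkPt_fst _ _] at sR
        haveI : IsIntegralHom (w ≫ affπ V₀ N).left := repWith_prop hint sR
        exact ((HasAffineProperty.iff_of_isAffine (P := @IsIntegralHom)).1 ‹IsIntegralHom (w ≫ affπ V₀ N).left›).2
    infer_instance
  obtain ⟨T₀, hT₀, ⟨e⟩⟩ := hZT
  haveI := hT₀
  refine isAff_of_chevalley Y (e.hom ≫ z) (Groth.L23.isFiniteMor_iff.2
    (MorphismProperty.RespectsIso.precomp _ e.hom z hzf)) fun y => ?_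
  obtain ⟨x, rfl⟩ := hfs y
  refine ⟨Points.map (l ≫ e.inv) x, ?_⟩
  rw [← Points.map_comp]
  congr 1
  rw [Category.assoc, e.inv_hom_id_assoc, reassoc_of% hl, mkPt_fst]

end Groth.L23.ChevGen
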