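import Groth.Agent.L23.ChevGen.Minimal
import Groth.Agent.L09.OverMapSp.RepW

/-!
# The theorem of Chevalley for algebraic spaces
-/

universe u

open CategoryTheory CategoryTheory.Limits AlgebraicGeometry Opposite AlgSp TopologicalSpace

set_option autoImplicit false
set_option linter.style.haveILetI false
set_option backward.isDefEq.respectTransparency false
set_option backward.isDefEq.respectTransparency.types false

noncomputable section

namespace Groth.L23.ChevGen

open Groth.L09.OverMapSp

variable {S : Scheme.{u}}

/-- Over a quasi-separated base. -/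
theorem isAff_of_rep [QuasiSeparatedSpace ↥S] (X : AlgSp.Space S) {D : Over S} [IsAffine D.left]
    (q : (yon S).obj D ⟶ X.obj) (hfa : RepWith @IsFinite q) (hs : RepWith @Surjective q) : IsAff X.obj := by
  have hqs : IsQuasiSeparatedSp X.obj := Qs.isQuasiSeparatedSp_of_compact X.property fun U V P a b fst snd hU hV sq => by
    haveI := hU
    haveI := hV
    haveI := isAffine_fibre hfa hs sq
    infer_instance
  have hsurj : IsSurjectiveMor q := surjective_map_of_repWith hs
  have hqc : IsQuasiCompactSp X.obj := qcSp_of_surjective X.property q hsurj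
    ⟨D, 𝟙 _, repWith_of_isIso _, repWith_of_isIso _, inferInstance⟩
  exact isAff_of_finite_surjective X hqc hqs q (Groth.L23.isFiniteMor_iff.2 hfa) hsurj

theorem isAff_of_incl {S' : Scheme.{u}} {g : S ⟶ S'} (X : AlgSp.Space S) (h : IsAff (totSp g X).obj) :
    IsAff X.obj := by
  obtain ⟨T', hT', ⟨e⟩⟩ := h
  obtain ⟨T, ε, x, hx⟩ := exists_incl (X := X.obj) e.hom
  haveI : IsIso (incl g x) := by rw [← hx]; infer_instance
  haveI := isIso_incl_id g T
  have hf : incl g (𝟙 ((yon S).obj T)) ≫ totMap x = incl g x := by rw [incl_totMap, Category.id_comp]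
  haveI : IsIso (incl g (𝟙 ((yon S).obj T)) ≫ totMap x) := by rw [hf]; infer_instance
  haveI : IsIso (totMap (g := g) x) := IsIso.of_isIso_comp_left (incl g (𝟙 ((yon S).obj T))) _
  let x' : (⟨(yon S).obj T, IsAlgSpace.yon_obj T⟩ : AlgSp.Space S) ⟶ X := ObjectProperty.homMk x
  haveI : IsIso ((spaceF g).map x').left := by
    haveI : IsIso ((ObjectProperty.ι _).map ((spaceF g).map x').left) := inferInstanceAs (IsIso (totMap (g := g) x))
    exact isIso_of_fully_faithful (ObjectProperty.ι _) _
  haveI : IsIso ((spaceF g).map x') := by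
    haveI : IsIso ((Over.forget _).map ((spaceF g).map x')) := ‹_›
    exact isIso_of_reflects_iso _ (Over.forget _)
  haveI : IsIso x' := isIso_of_fully_faithful (spaceF g) x'
  haveI : IsIso x := inferInstanceAs (IsIso ((ObjectProperty.ι _).map x'))
  haveI : IsAffine T'.left := hT'
  haveI : IsIso ε.hom.left := inferInstanceAs (IsIso ((Over.forget S').map ε.hom))
  exact ⟨T, IsAffine.of_isIso (show T.left ⟶ T'.left from ε.hom.left), ⟨asIso x⟩⟩

/-- An algebraic space with a finite surjective map from an affine scheme is affine. -/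
theorem isAff_of_chevalley (X : AlgSp.Space S) {D : Over S} [IsAffine D.left] (q : (yon S).obj D ⟶ X.obj)
    (hfin : IsFiniteMor q) (hsurj : IsSurjectiveMor q) : IsAff X.obj := by
  have hfa : RepWith @IsFinite q := Groth.L23.isFiniteMor_iff.1 hfin
  have hs : RepWith @Surjective q := repWith_surjective_of_map (X.property.representable_from_yon q) hsurj
  refine isAff_of_incl (g := terminal.from S) X ?_
  haveI : IsAffine ((Over.map (terminal.from S)).obj D).left := inferInstanceAs (IsAffine D.left)
  exact isAff_of_rep (totSp (terminal.from S) X) (incl (terminal.from S) q)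
    ((totFibre (terminal.from S) X.obj).repWith_ι _ hfa) ((totFibre (terminal.from S) X.obj).repWith_ι _ hs)

end Groth.L23.ChevGen
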