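import Groth.Agent.L23.ChevGen.Vanish
import Groth.Agent.L23.ChevGen.Closed
import Groth.Agent.L23.UnionAffine
import Groth.Agent.L23.ThickScheme
import Groth.Agent.L23.RedInd
import Groth.Agent.S10732

/-!
# A space with a finite surjective map from an affine scheme is affine
-/

universe u

open CategoryTheory CategoryTheory.Limits AlgebraicGeometry Opposite AlgSp TopologicalSpace

set_option autoImplicit false
set_option linter.style.haveILetI false
set_option backward.isDefEq.respectTransparency false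
set_option backward.isDefEq.respectTransparency.types false

noncomputable section

namespace Groth.L23.ChevGen

open Groth.L09.ModEt Groth.L23.GlobSec

variable {S : Scheme.{u}}

/-- Isomorphism to an affine scheme. -/
abbrev IsAff (X : Sp S) : Prop := ∃ T : Over S, IsAffine T.left ∧ Nonempty ((yon S).obj T ≅ X)

theorem isIso_of_factor {Y Z : Sp S} {j : Z ⟶ Y} [Mono j] {k : Y ⟶ Z} (h : k ≫ j = 𝟙 Y) : IsIso j :=
  ⟨k, (cancel_mono j).1 (by rw [Category.assoc, h, Category.comp_id, Category.id_comp]), h⟩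

theorem surjective_map_of_isIso {X Y : Sp S} (f : X ⟶ Y) [IsIso f] : Function.Surjective (Points.map f) := fun y =>
  ⟨Points.map (inv f) y, by rw [← Points.map_comp, IsIso.inv_hom_id, Points.map_id]⟩

variable [QuasiSeparatedSpace ↥S] (X : AlgSp.Space S) (hqc : IsQuasiCompactSp X.obj) (hqs : IsQuasiSeparatedSp X.obj)
  {D : Over S} [IsAffine D.left] (q : (yon S).obj D ⟶ X.obj) (hfin : IsFiniteMor q) (hsurj : IsSurjectiveMor q)

include hqc hqs hfin hsurj in
set_option maxHeartbeats 1600000 in
/-- A space all whose proper closed subspaces are affine is affine. -/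
theorem isAff_of_minimal
    (hmin : ∀ (Z : AlgSp.Space S) (j : Z.obj ⟶ X.obj), RepWith @IsClosedImmersion j → IsIso j ∨ IsAff Z.obj) :
    IsAff X.obj := by
  by_contra hna
  have hfa : RepWith @IsFinite q := Groth.L23.isFiniteMor_iff.1 hfin
  have hs : RepWith @Surjective q := repWith_surjective_of_map (X.property.representable_from_yon q) hsurj
  obtain ⟨a⟩ := nonempty_atlas X hqc hqs
  haveI := a.aff
  have hne : Nonempty (Points X.obj) := by
    by_contra he
    rw [not_nonempty_iff] at he
    haveI : IsEmpty a.U.obj.left.left := ⟨fun e => he.false (Points.ofPt a.U.obj.hom e)⟩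
    haveI : Subsingleton (Γ₀ a.U) :=
      CommRingCat.subsingleton_of_isTerminal ((a.U.obj.left.left.sheaf.isTerminalOfEmpty).ofIso
        (eqToIso (congrArg (fun U => a.U.obj.left.left.presheaf.obj (op U))
          (show (⊥ : a.U.obj.left.left.Opens) = ⊤ from Opens.ext (Set.eq_univ_of_forall fun e => isEmptyElim e)))))
    refine hna (Groth.Agent.S10732.result X hqc hqs fun M hM => ?_)
    haveI := hM
    haveI : Subsingleton (sectModEt M a.U) := Module.subsingleton (Γ₀ a.U) _
    exact ChevNoeth.subsingleton_h_of_isZero (ChevNoeth.eq_zero_of_atlas a (𝟙 M) fun s => Subsingleton.elim _ _) 1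
  have hclosed : ∀ C : Set (Points X.obj), IsClosed C → C ≠ Set.univ →
      ∃ (T : Over S) (c : (yon S).obj T ⟶ X.obj), IsAffine T.left ∧ RepWith @IsClosedImmersion c ∧
        Set.range (Points.map c) = C := fun C hC hne => by
    obtain ⟨Z, hZ, i, hcl, hr, -⟩ := exists_isRedInduced X.property hC
    rcases hmin ⟨Z, hZ⟩ i hcl with h | ⟨T, hT, ⟨e⟩⟩
    · exact absurd (by rw [← hr, (surjective_map_of_isIso i).range_eq]) hne
    · refine ⟨T, e.hom ≫ i, hT, MorphismProperty.RespectsIso.precomp _ _ _ hcl, ?_⟩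
      rw [← hr]
      ext y
      constructor
      · rintro ⟨z, rfl⟩
        exact ⟨_, (Points.map_comp e.hom i z).symm⟩
      · rintro ⟨z, rfl⟩
        exact ⟨Points.map e.inv z, by rw [← Points.map_comp, e.inv_hom_id_assoc]⟩
  have hred : IsReducedSp X.obj := by
    obtain ⟨Z, hZ, i, hcl, hr, hZr⟩ := exists_isRedInduced X.property (isClosed_univ (X := Points X.obj))
    rcases hmin ⟨Z, hZ⟩ i hcl with h | ⟨T, hT, ⟨e⟩⟩
    · exact isReducedSp_of_iso i hZr
    · haveI := hT
      have hth : IsThickMor (e.hom ≫ i) := MorphismProperty.RespectsIso.precomp (RepWith thick) e.hom i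
        (isThickMor_of_surjective hcl (Set.range_eq_univ.1 hr))
      obtain ⟨A, f, hA, hf⟩ := exists_affine_of_thickening X.property hth
      exact absurd ⟨A, hA, ⟨(asIso f).symm⟩⟩ hna
  haveI : PreirreducibleSpace (Points X.obj) := by
    refine ⟨isPreirreducible_iff_isClosed_union_isClosed.2 fun C₁ C₂ hC₁ hC₂ h => ?_⟩
    by_contra hn
    rw [not_or, Set.univ_subset_iff, Set.univ_subset_iff] at hn
    obtain ⟨T₁, c₁, hT₁, hc₁, hr₁⟩ := hclosed C₁ hC₁ hn.1
    obtain ⟨T₂, c₂, hT₂, hc₂, hr₂⟩ := hclosed C₂ hC₂ hn.2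
    haveI := hT₁
    haveI := hT₂
    exact hna (UnionAffine.exists_iso_affine hred hqs hc₁ hc₂ (by rw [hr₁, hr₂]; exact Set.univ_subset_iff.1 h))
  haveI : IrreducibleSpace (Points X.obj) := ⟨hne⟩
  obtain ⟨η, hη⟩ := isGeneric_exists (X := X) hqs
  have hG : Setting X η := ⟨hqs, hred, hη⟩
  refine hna (Groth.Agent.S10732.result X hqc hqs (subsingleton_h q hfin hsurj hqc hG (fun E E' hE hE' => ?_) ?_ 1 le_rfl))
  · haveI := hE
    haveI := hE'
    have hprod : IsPullback ((yon S).map (EtOver.prodFst E E').hom.left) ((yon S).map (EtOver.prodSnd E E').hom.left)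
        E.obj.hom E'.obj.hom := by
      show IsPullback ((yon S).map (E'.property.1.snd E.obj.hom)) ((yon S).map (E'.property.1.fst' E.obj.hom)) _ _
      rw [Functor.relativelyRepresentable.map_fst']
      exact (E'.property.1.isPullback E.obj.hom).flip
    exact isAffine_fibre hfa hs hprod
  · rintro I hI ⟨E, hE, P, hP, f, hf, hfP⟩
    obtain ⟨Z, hZ, i, hi⟩ := CutOut.exists_isCutOutBy X.property hI
    rcases hmin ⟨Z, hZ⟩ i hi.choose with h | ⟨T, hT, ⟨e⟩⟩
    · rw [← hi.choose_spec, idealOfRep_isIso i] at hf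
      exact absurd ((show f = 0 from hf) ▸ zero_mem _) hfP
    · exact ⟨T, hT, e.hom ≫ i, isCutOutBy_precomp_iso hi e⟩

include hqc hqs hfin hsurj in
set_option maxHeartbeats 1600000 in
/-- A quasi-compact quasi-separated space with a finite surjective map from an affine scheme is affine. -/
theorem isAff_of_finite_surjective : IsAff X.obj := by
  by_contra hna
  have hbot : NonAff (⊥ : IdealEt X.obj) := by
    refine ⟨bot_isQCoh, fun T hT c hc => hna ?_⟩
    haveI := mono_of_closedImmersion hc.choose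
    have h1 : RepWith @IsClosedImmersion (𝟙 X.obj) := repWith_of_isIso _
    obtain ⟨k, hk⟩ := (CutOut.le_iff_exists_factor X.property hc ⟨h1, rfl⟩).1 (fun E hE => bot_le)
    haveI := isIso_of_factor hk
    exact ⟨T, hT, ⟨asIso c⟩⟩
  obtain ⟨I₀, hI₀⟩ := exists_maximal_of_chains_bounded
    (r := fun I I' : {I : IdealEt X.obj // NonAff I} => I.1 ≤ I'.1) (fun C hC => by
      rcases C.eq_empty_or_nonempty with rfl | hne
      · exact ⟨⟨⊥, hbot⟩, fun _ h => absurd h (Set.notMem_empty _)⟩
      · haveI : Std.Refl (fun I I' : {I : IdealEt X.obj // NonAff I} => I.1 ≤ I'.1) := ⟨fun I E hE => le_rfl⟩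
        obtain ⟨J, hJ, -⟩ := exists_upper_bound hqc hqs C hC.directedOn hne
        exact ⟨J, hJ⟩)
    (fun h h' E hE => (h E hE).trans (h' E hE))
  obtain ⟨Y₀, hY₀, i, hi⟩ := CutOut.exists_isCutOutBy X.property I₀.2.1
  let Y : AlgSp.Space S := ⟨Y₀, hY₀⟩
  haveI := mono_of_closedImmersion hi.choose
  obtain ⟨hYqc, hYqs⟩ := qc_qs_of_closedImmersion hY₀ hqc hqs hi.choose
  have hfa : RepWith @IsFinite q := Groth.L23.isFiniteMor_iff.1 hfin
  have hs : RepWith @Surjective q := repWith_surjective_of_map (X.property.representable_from_yon q) hsurj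
  have sq := hi.choose.1.isPullback q
  haveI : IsClosedImmersion (hi.choose.1.snd q).left := repWith_snd hi.choose q
  haveI : IsAffine (hi.choose.1.pullback q).left := isAffine_of_isAffineHom (hi.choose.1.snd q).left
  suffices hmin : ∀ (Z : AlgSp.Space S) (j : Z.obj ⟶ Y₀), RepWith @IsClosedImmersion j → IsIso j ∨ IsAff Z.obj by
    obtain ⟨T, hT, ⟨e⟩⟩ := isAff_of_minimal Y hYqc hYqs (hi.choose.1.fst q)
      (Groth.L23.isFiniteMor_iff.2 (repWith_of_isPullback sq.flip hfa))
      (surjective_map_of_repWith (repWith_of_isPullback sq.flip hs)) hmin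
    exact I₀.2.2 T hT (e.hom ≫ i) (isCutOutBy_precomp_iso (X := X) hi e)
  intro Z j hj
  haveI := mono_of_closedImmersion hj
  have hji : RepWith @IsClosedImmersion (j ≫ i) := repWith_comp hj hi.choose
  let K := idealOfRep hji.1
  have hK : K.IsQCoh := CutOut.idealOfRep_isQCoh (CutOut.repWith_quasiCompact_of_closedImmersion hji)
  have hle : I₀.1 ≤ K := (CutOut.le_iff_exists_factor X.property hi ⟨hji, rfl⟩).2 ⟨j, rfl⟩
  by_cases hN : NonAff K
  · obtain ⟨k, hk⟩ := (CutOut.le_iff_exists_factor X.property (i := j ≫ i) ⟨hji, rfl⟩ hi).1 (hI₀ ⟨K, hN⟩ hle)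
    refine Or.inl (isIso_of_factor (k := k) ((cancel_mono i).1 ?_))
    rw [Category.assoc, hk, Category.id_comp]
  · simp only [NonAff, hK, true_and, not_forall, not_not] at hN
    obtain ⟨T, hT, c, hc⟩ := hN
    haveI := mono_of_closedImmersion hc.choose
    haveI := mono_of_closedImmersion hji
    obtain ⟨k, hk⟩ := (CutOut.le_iff_exists_factor X.property (i := j ≫ i) ⟨hji, rfl⟩ hc).1 fun E hE => le_rfl
    obtain ⟨l, hl⟩ := (CutOut.le_iff_exists_factor X.property hc (i' := j ≫ i) ⟨hji, rfl⟩).1 fun E hE => le_rfl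
    exact Or.inr ⟨T, hT, ⟨⟨k, l, (cancel_mono c).1 (by rw [Category.assoc, hl, hk, Category.id_comp]),
      (cancel_mono (j ≫ i)).1 (by rw [Category.assoc, hk, hl, Category.id_comp])⟩⟩⟩

end Groth.L23.ChevGen
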