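import Groth.Agent.L23.MorCalc
import Groth.Agent.L23.AffineMor
import Groth.Agent.L23.QsTop
import Groth.Agent.L23.GlobSec

/-!
# Separated spaces over an affine base
-/

universe u

open CategoryTheory CategoryTheory.Limits AlgebraicGeometry Opposite AlgSp TopologicalSpace MorphismProperty

set_option autoImplicit false
set_option linter.style.haveILetI false
set_option backward.isDefEq.respectTransparency false
set_option backward.isDefEq.respectTransparency.types false

noncomputable section

namespace Groth.L23.ChevGen

open Groth.L23.GlobSec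

variable {S : Scheme.{u}}

theorem separated_map {T T' : Over S} (φ : T ⟶ T') [IsSeparated φ.left] : IsSeparatedMor ((yon S).map φ) := by
  have sq := (IsPullback.of_hasPullback φ φ).map (yon S)
  have e : pullback.diagonal ((yon S).map φ) = (yon S).map (pullback.diagonal φ) ≫ sq.isoPullback.hom := by
    apply pullback.hom_ext
    · rw [pullback.diagonal_fst, Category.assoc, sq.isoPullback_hom_fst, ← Functor.map_comp, pullback.diagonal_fst,
        CategoryTheory.Functor.map_id]
    · rw [pullback.diagonal_snd, Category.assoc, sq.isoPullback_hom_snd, ← Functor.map_comp, pullback.diagonal_snd,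
        CategoryTheory.Functor.map_id]
  have sq' := (IsPullback.of_hasPullback φ φ).map (Over.forget S)
  have e' : (pullback.diagonal φ).left ≫ sq'.isoPullback.hom = pullback.diagonal φ.left := by
    apply pullback.hom_ext
    · exact (Category.assoc _ _ _).trans ((congrArg ((pullback.diagonal φ).left ≫ ·) sq'.isoPullback_hom_fst).trans
        ((congrArg CommaMorphism.left (pullback.diagonal_fst φ)).trans (pullback.diagonal_fst φ.left).symm))
    · exact (Category.assoc _ _ _).trans ((congrArg ((pullback.diagonal φ).left ≫ ·) sq'.isoPullback_hom_snd).trans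
        ((congrArg CommaMorphism.left (pullback.diagonal_snd φ)).trans (pullback.diagonal_snd φ.left).symm))
  have h : IsClosedImmersion (pullback.diagonal φ).left := by
    rw [← MorphismProperty.cancel_right_of_respectsIso @IsClosedImmersion _ sq'.isoPullback.hom, e']
    infer_instance
  show RepWith @IsClosedImmersion (pullback.diagonal ((yon S).map φ))
  rw [e]
  exact repWith_comp (repWith_map h) (repWith_of_isIso _)

variable {X Y : Sp S}

/-- A property descending along fpqc covers is tested on one affine etale atlas. -/
theorem repWith_of_atlas {P : MorphismProperty Scheme.{u}} [P.IsStableUnderBaseChange] [IsZariskiLocalAtTarget P]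
    [DescendsAlong P (@Surjective ⊓ @Flat ⊓ @QuasiCompact)]
    {f : X ⟶ Y} (hf : Representable f) {V : Over S} {p : (yon S).obj V ⟶ Y} (hp : RepWith @Etale p)
    (hps : RepWith @Surjective p) {W : Over S} {fst : (yon S).obj W ⟶ X} {w : W ⟶ V}
    (sq : IsPullback fst ((yon S).map w) f p) (h : P w.left) : RepWith P f := by
  refine repWith_of_affine f fun Z hZ g => ?_
  haveI := hZ
  obtain ⟨Z', e, m, hZ', he, hes, we⟩ := exists_affine_refine hp hps g
  haveI := hZ'
  refine ⟨_, hf.snd g, hf.fst g, hf.isPullback g, ?_⟩
  have sq₂ := IsPullback.of_hasPullback (hf.snd g) e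
  have sL := (sq₂.map (yon S)).paste_horiz (hf.isPullback g)
  rw [← we] at sL
  let l := (yon S).preimage (sq.lift ((yon S).map (pullback.fst (hf.snd g) e) ≫ hf.fst g)
    ((yon S).map (pullback.snd (hf.snd g) e) ≫ (yon S).map m) (by rw [sL.w, Category.assoc]))
  have hl : (yon S).map l ≫ fst = (yon S).map (pullback.fst (hf.snd g) e) ≫ hf.fst g := by
    rw [Functor.map_preimage, sq.lift_fst]
  have hl' : l ≫ w = pullback.snd (hf.snd g) e ≫ m :=
    (yon S).map_injective (by rw [Functor.map_comp, Functor.map_preimage, sq.lift_snd, Functor.map_comp])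
  have sM : IsPullback ((yon S).map l) ((yon S).map (pullback.snd (hf.snd g) e)) ((yon S).map w) ((yon S).map m) := by
    refine IsPullback.of_right ?_ (by rw [← Functor.map_comp, ← Functor.map_comp, hl']) sq
    rw [hl]
    exact sL
  have h' : P (pullback.snd (hf.snd g) e).left :=
    of_isPullback ((IsPullback.of_map (yon S) hl' sM).map (Over.forget S)) h
  have he' : (@Surjective ⊓ @Flat ⊓ @QuasiCompact : MorphismProperty Scheme.{u}) e.left :=
    ⟨⟨hes, inferInstance⟩, inferInstance⟩
  exact MorphismProperty.of_isPullback_of_descendsAlong (P := P) (sq₂.map (Over.forget S)).flip he' h'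

section Affine

variable [IsAffine S]

/-- The final scheme over the base. -/
abbrev one (S : Scheme.{u}) : Over S := Over.mk (𝟙 S)

/-- The structure map of a sheaf. -/
abbrev str (X : Sp S) : X ⟶ (yon S).obj (one S) := (Over.mkIdTerminal.isTerminalObj (yon S) (one S)).from X

omit [IsAffine S] in
theorem comp_str (f : X ⟶ Y) : f ≫ str Y = str X :=
  (Over.mkIdTerminal.isTerminalObj (yon S) (one S)).hom_ext _ _

theorem affineHom_of_sep (hY : IsSeparatedMor (str Y)) {T : Over S} [IsAffine T.left] (a : (yon S).obj T ⟶ Y) :
    RepWith @IsAffineHom a := by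
  refine repWith_of_comp_diagonal (q := str Y) ?_
    (repWith_mono (fun φ (_ : IsClosedImmersion φ) => inferInstanceAs (IsAffineHom φ)) hY)
  obtain ⟨k, hk⟩ := (yon S).map_surjective (a ≫ str Y)
  haveI : IsAffine (one S).left := inferInstanceAs (IsAffine S)
  rw [← hk]
  exact repWith_map (isAffineHom_of_isAffine k.left)

theorem isAffine_fibre_of_sep (hY : IsSeparatedMor (str Y)) {U V P : Over S} [IsAffine U.left] [IsAffine V.left]
    {a : (yon S).obj U ⟶ Y} {b : (yon S).obj V ⟶ Y} {fst : P ⟶ U} {snd : P ⟶ V}
    (sq : IsPullback ((yon S).map fst) ((yon S).map snd) a b) : IsAffine P.left := by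
  haveI : IsAffineHom snd.left := repWith_prop (affineHom_of_sep hY a) sq
  exact isAffine_of_isAffineHom snd.left

theorem qcqs_of_sep (X : AlgSp.Space S) (hX : IsSeparatedMor (str X.obj)) {T : Over S} [IsAffine T.left]
    (p : (yon S).obj T ⟶ X.obj) (hp : Function.Surjective (Points.map p)) :
    IsQuasiCompactSp X.obj ∧ IsQuasiSeparatedSp X.obj :=
  ⟨qcSp_of_surjective X.property p hp ⟨T, 𝟙 _, repWith_of_isIso _, repWith_of_isIso _, inferInstance⟩,
    Qs.isQuasiSeparatedSp_of_compact X.property fun U V P a b fst snd hU hV sq => by
      haveI := hU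
      haveI := hV
      haveI := isAffine_fibre_of_sep hX sq
      infer_instance⟩

end Affine

end Groth.L23.ChevGen
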