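import Groth.Agent.L23.HomBC
import Mathlib.RingTheory.Flat.Basic
import Mathlib.RingTheory.KrullDimension.Zero
import Mathlib.RingTheory.Localization.AtPrime.Basic
import Mathlib.Algebra.Module.LocalizedModule.Basic
import Mathlib.Algebra.Module.FinitePresentation
import Mathlib.RingTheory.Localization.Finiteness
import Mathlib.RingTheory.LocalProperties.Reduced

/-!
# Modules without torsion at the generic points

Over a ring with finitely many generic points whose local rings are fields, linear maps out of a finite module into a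
module without torsion at these points commute with flat base change.
-/

universe u v w

open TensorProduct

set_option autoImplicit false
set_option linter.style.haveILetI false

noncomputable section

namespace Groth.L23.ChevGen

variable {R : Type u} [CommRing R] (G : Set (PrimeSpectrum R))

/-- Vanishing at a set of points. -/
def IsTor {M : Type*} [AddCommGroup M] [Module R M] (s : M) : Prop :=
  ∀ p ∈ G, ∃ r ∉ p.asIdeal, r • s = 0

variable {G} {M : Type*} [AddCommGroup M] [Module R M]

theorem isTor_zero : IsTor G (0 : M) := fun p _ => ⟨1, p.asIdeal.one_notMem, smul_zero _⟩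

theorem IsTor.add {s t : M} (hs : IsTor G s) (ht : IsTor G t) : IsTor G (s + t) := fun p hp => by
  obtain ⟨a, ha, ha'⟩ := hs p hp
  obtain ⟨b, hb, hb'⟩ := ht p hp
  refine ⟨a * b, fun h => (p.isPrime.mem_or_mem h).elim ha hb, ?_⟩
  rw [smul_add, mul_smul a b t, hb', smul_zero, add_zero, mul_comm, mul_smul, ha', smul_zero]

theorem IsTor.smul {s : M} (hs : IsTor G s) (r : R) : IsTor G (r • s) := fun p hp => by
  obtain ⟨a, ha, ha'⟩ := hs p hp
  exact ⟨a, ha, by rw [smul_comm, ha', smul_zero]⟩

theorem IsTor.map {N : Type*} [AddCommGroup N] [Module R N] {s : M} (hs : IsTor G s) (f : M →ₗ[R] N) :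
    IsTor G (f s) := fun p hp => by
  obtain ⟨a, ha, ha'⟩ := hs p hp
  exact ⟨a, ha, by rw [← map_smul, ha', map_zero]⟩

variable (G M) in
/-- The elements vanishing at the points. -/
def tor : Submodule R M where
  carrier := {s | IsTor G s}
  add_mem' := IsTor.add
  zero_mem' := isTor_zero
  smul_mem' r _ hs := hs.smul r

theorem mem_tor {s : M} : s ∈ tor G M ↔ IsTor G s := Iff.rfl

theorem isField_localization [IsReduced R] (p : PrimeSpectrum R) (hp : p.asIdeal ∈ minimalPrimes R) :
    IsField (Localization.AtPrime p.asIdeal) := by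
  haveI := Ring.KrullDimLE.of_isLocalization p.asIdeal hp (Localization.AtPrime p.asIdeal)
  haveI : IsReduced (Localization.AtPrime p.asIdeal) :=
    isReduced_localizationPreserves p.asIdeal.primeCompl (Localization.AtPrime p.asIdeal) inferInstance
  exact Ring.KrullDimLE.isField_of_isReduced

set_option maxHeartbeats 800000 in
theorem exists_fg_at {F : Type v} [AddCommGroup F] [Module R F] [Module.Finite R F] (K : Submodule R F)
    (p : PrimeSpectrum R) (hp : IsField (Localization.AtPrime p.asIdeal)) :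
    ∃ K₀ ≤ K, K₀.FG ∧ ∀ k ∈ K, ∃ r ∉ p.asIdeal, r • k ∈ K₀ := by
  classical
  letI := hp.toField
  let P := LocalizedModule p.asIdeal.primeCompl F
  let j : F →ₗ[R] P := LocalizedModule.mkLinearMap p.asIdeal.primeCompl F
  haveI : Module.Finite (Localization.AtPrime p.asIdeal) P :=
    inferInstanceAs (Module.Finite (Localization p.asIdeal.primeCompl) (LocalizedModule p.asIdeal.primeCompl F))
  have hfg : (Submodule.span (Localization.AtPrime p.asIdeal) (j '' (K : Set F))).FG := IsNoetherian.noetherian _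
  obtain ⟨T, hT, hTspan⟩ := Submodule.fg_span_iff_fg_span_finset_subset _ |>.1 hfg
  choose pre hpre hpre' using fun t : T => hT t.2
  refine ⟨Submodule.span R (Set.range pre), Submodule.span_le.2 (by rintro _ ⟨t, rfl⟩; exact hpre t),
    Submodule.fg_span (Set.finite_range pre), fun k hk => ?_⟩
  have hk' : j k ∈ Submodule.span (Localization.AtPrime p.asIdeal) (T : Set P) :=
    hTspan.le (Submodule.subset_span ⟨k, hk, rfl⟩)
  have key : ∀ x ∈ Submodule.span (Localization.AtPrime p.asIdeal) (T : Set P),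
      ∃ r ∉ p.asIdeal, ∃ k₀ ∈ Submodule.span R (Set.range pre), r • x = j k₀ := by
    intro x hx
    induction hx using Submodule.span_induction with
    | mem x hx =>
      exact ⟨1, p.asIdeal.one_notMem, pre ⟨x, hx⟩, Submodule.subset_span ⟨_, rfl⟩, by rw [one_smul, hpre']⟩
    | zero => exact ⟨1, p.asIdeal.one_notMem, 0, zero_mem _, by rw [smul_zero, map_zero]⟩
    | add x y _ _ hx hy =>
      obtain ⟨a, ha, k₁, hk₁, e₁⟩ := hx
      obtain ⟨b, hb, k₂, hk₂, e₂⟩ := hy
      refine ⟨a * b, fun h => (p.isPrime.mem_or_mem h).elim ha hb, b • k₁ + a • k₂,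
        add_mem (Submodule.smul_mem _ b hk₁) (Submodule.smul_mem _ a hk₂), ?_⟩
      rw [map_add, map_smul, map_smul, ← e₁, ← e₂, smul_add, smul_smul, smul_smul, mul_comm b a]
    | smul c x _ hx =>
      obtain ⟨a, ha, k₁, hk₁, e₁⟩ := hx
      obtain ⟨⟨b, d⟩, hc⟩ := IsLocalization.surj p.asIdeal.primeCompl c
      refine ⟨a * (d : R), fun h => (p.isPrime.mem_or_mem h).elim ha d.2, b • k₁, Submodule.smul_mem _ b hk₁, ?_⟩
      rw [map_smul, ← e₁, mul_comm a, mul_smul, smul_comm a c x, ← smul_assoc (d : R) c (a • x), Algebra.smul_def,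
        mul_comm, hc, IsScalarTower.algebraMap_smul]
  obtain ⟨r, hr, k₀, hk₀, e⟩ := key _ hk'
  rw [← map_smul] at e
  obtain ⟨c, hc⟩ := (IsLocalizedModule.eq_iff_exists p.asIdeal.primeCompl j).1 e
  refine ⟨(c : R) * r, fun h => (p.isPrime.mem_or_mem h).elim c.2 hr, ?_⟩
  rw [mul_smul]
  exact (show (c : R) • r • k = (c : R) • k₀ from hc) ▸ Submodule.smul_mem _ _ hk₀

theorem exists_fg_approx {F : Type v} [AddCommGroup F] [Module R F] [Module.Finite R F] (K : Submodule R F)
    (hG : G.Finite) (hfield : ∀ p ∈ G, IsField (Localization.AtPrime p.asIdeal)) :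
    ∃ K₀ ≤ K, K₀.FG ∧ ∀ k ∈ K, IsTor G (Submodule.Quotient.mk k : F ⧸ K₀) := by
  classical
  haveI := hG.to_subtype
  choose K₁ hle hfg hK₁ using fun p : G => exists_fg_at K p.1 (hfield p.1 p.2)
  refine ⟨⨆ p, K₁ p, iSup_le hle, Submodule.fg_iSup _ hfg, fun k hk p hp => ?_⟩
  obtain ⟨r, hr, hrk⟩ := hK₁ ⟨p, hp⟩ k hk
  refine ⟨r, hr, ?_⟩
  rw [← Submodule.Quotient.mk_smul, Submodule.Quotient.mk_eq_zero]
  exact le_iSup K₁ ⟨p, hp⟩ hrk

theorem bijective_precomp {A B N : Type*} [AddCommGroup A] [AddCommGroup B] [AddCommGroup N] [Module R A]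
    [Module R B] [Module R N] (π : A →ₗ[R] B) (hπ : Function.Surjective π)
    (h : ∀ (g : A →ₗ[R] N) (a : A), π a = 0 → g a = 0) :
    Function.Bijective fun f : B →ₗ[R] N => f.comp π := by
  refine ⟨fun f f' e => LinearMap.ext fun b => ?_, fun g => ?_⟩
  · obtain ⟨a, rfl⟩ := hπ b
    exact LinearMap.congr_fun e a
  · refine ⟨((LinearMap.ker π).liftQ g fun a ha => LinearMap.mem_ker.2 (h g a ha)).comp
      (π.quotKerEquivOfSurjective hπ).symm.toLinearMap, LinearMap.ext fun a => ?_⟩
    show ((LinearMap.ker π).liftQ g fun a ha => LinearMap.mem_ker.2 (h g a ha))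
      ((π.quotKerEquivOfSurjective hπ).symm (π a)) = g a
    rw [show (π.quotKerEquivOfSurjective hπ).symm (π a) = Submodule.Quotient.mk a from
      (LinearEquiv.symm_apply_eq _).2 rfl, Submodule.liftQ_apply]

variable {C De Dp : Type u} [CommRing C] [CommRing De] [CommRing Dp] [Algebra R C] [Algebra R De]
  [Algebra C Dp] [Algebra De Dp] [Algebra R Dp] [IsScalarTower R C Dp] [IsScalarTower R De Dp]
  [Algebra.IsPushout R C De Dp]
  {N : Type w} [AddCommGroup N] [Module R N] {N' : Type w} [AddCommGroup N'] [Module C N']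
  (ε : N →+ N') [Module.Finite R De] [Module.Flat R C]

set_option maxHeartbeats 1600000 in
/-- Linear maps out of a finite algebra into a module without torsion commute with flat base change. -/
theorem bijective_hom (hG : G.Finite) (hfield : ∀ p ∈ G, IsField (Localization.AtPrime p.asIdeal))
    (htf : ∀ n : N, IsTor G n → n = 0)
    (htf' : ∀ z : N', (∀ p ∈ G, ∃ r ∉ p.asIdeal, algebraMap R C r • z = 0) → z = 0)
    (hε : ∀ (r : R) (n : N), ε (r • n) = algebraMap R C r • ε n)
    (θ : C ⊗[R] N →+ N') (hθ : Function.Bijective θ) (hθε : ∀ c n, θ (c ⊗ₜ n) = c • ε n)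
    (r : (De →ₗ[R] N) → (Dp →ₗ[C] N')) (hr : ∀ φ e, r φ (algebraMap De Dp e) = ε (φ e))
    (Φ : C ⊗[R] (De →ₗ[R] N) →+ (Dp →ₗ[C] N')) (hΦ : ∀ c φ, Φ (c ⊗ₜ φ) = c • r φ) :
    Function.Bijective Φ := by
  letI : Module R N' := Module.compHom N' (algebraMap R C)
  haveI : IsScalarTower R C N' := ⟨fun r c n => by
    show (r • c) • n = algebraMap R C r • c • n
    rw [Algebra.smul_def, mul_smul]⟩
  obtain ⟨n, π₀, hπ₀⟩ := Module.Finite.exists_fin' R De
  obtain ⟨K₀, hle, hfg, hK₀⟩ := exists_fg_approx (LinearMap.ker π₀) hG hfield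
  haveI : Module.FinitePresentation R ((Fin n → R) ⧸ K₀) :=
    Module.finitePresentation_of_surjective K₀.mkQ K₀.mkQ_surjective (by rwa [Submodule.ker_mkQ])
  let π : ((Fin n → R) ⧸ K₀) →ₗ[R] De := K₀.liftQ π₀ hle
  have hπ : Function.Surjective π := fun b => by
    obtain ⟨a, rfl⟩ := hπ₀ b
    exact ⟨Submodule.Quotient.mk a, rfl⟩
  have hker : ∀ a, π a = 0 → IsTor G a := by
    intro a ha
    obtain ⟨a, rfl⟩ := K₀.mkQ_surjective a
    exact hK₀ a ha
  let θl : C ⊗[R] N →ₗ[C] N' :=
    { θ with
      map_smul' := fun c x => by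
        show θ (c • x) = c • θ x
        induction x using TensorProduct.induction_on with
        | zero => simp
        | tmul d n => rw [TensorProduct.smul_tmul', hθε, hθε, smul_eq_mul, mul_smul]
        | add x y hx hy => rw [smul_add, map_add, map_add, hx, hy, smul_add] }
  let eN : C ⊗[R] N ≃ₗ[C] N' := LinearEquiv.ofBijective θl hθ
  let j := Algebra.IsPushout.out (R := R) (S := C) (R' := De) (S' := Dp)
  let e₁ := (Module.FinitePresentation.isBaseChange_map (R := R) (M := (Fin n → R) ⧸ K₀) (N := N) C).equiv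
  let e₂ : (C ⊗[R] De →ₗ[C] C ⊗[R] N) ≃ₗ[C] (Dp →ₗ[C] N') := LinearEquiv.arrowCongr j.equiv eN
  let πC := LinearMap.baseChange C π
  have hP : Function.Bijective fun f : C ⊗[R] De →ₗ[C] C ⊗[R] N => f.comp πC := by
    refine bijective_precomp πC (LinearMap.lTensor_surjective C hπ) fun g a ha => ?_
    obtain ⟨y, rfl⟩ := (Module.Flat.lTensor_exact C (LinearMap.exact_subtype_ker_map π) a).1 ha
    clear ha
    induction y using TensorProduct.induction_on with
    | zero => rw [map_zero, map_zero]
    | tmul c k =>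
      show g (c ⊗ₜ[R] k.1) = 0
      rw [show (c ⊗ₜ[R] (k.1 : (Fin n → R) ⧸ K₀)) = c • ((1 : C) ⊗ₜ[R] k.1) by
        rw [TensorProduct.smul_tmul', smul_eq_mul, mul_one], map_smul]
      have h0 : g ((1 : C) ⊗ₜ[R] k.1) = 0 := eN.injective (by
        rw [map_zero]
        refine htf' _ fun p hp => ?_
        obtain ⟨a, ha, ha'⟩ := hker k.1 k.2 p hp
        refine ⟨a, ha, ?_⟩
        rw [← map_smul, ← map_smul, TensorProduct.smul_tmul', smul_eq_mul, mul_one,
          show (algebraMap R C a : C) = a • (1 : C) by rw [Algebra.smul_def, mul_one], TensorProduct.smul_tmul, ha',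
          TensorProduct.tmul_zero, map_zero, map_zero])
      show _ = (0 : C ⊗[R] N)
      rw [h0, smul_zero]
    | add x y hx hy => rw [map_add, map_add, hx, hy, add_zero]
  have hQ : Function.Bijective fun f : De →ₗ[R] N => f.comp π :=
    bijective_precomp π hπ fun g a ha => htf _ ((hker a ha).map g)
  let eHom : (De →ₗ[R] N) ≃ₗ[R] (((Fin n → R) ⧸ K₀) →ₗ[R] N) :=
    LinearEquiv.ofBijective (LinearMap.lcomp R N π) hQ
  have key : ∀ x, (e₂.symm (Φ x)).comp πC = e₁ (eHom.lTensor C x) := fun x => by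
    induction x using TensorProduct.induction_on with
    | zero => simp
    | tmul c φ =>
      have hφ : e₂.symm (r φ) = LinearMap.baseChange C φ := by
        refine (LinearEquiv.symm_apply_eq _).2 ((HomBC.ext_gen R (De := De)) fun e => ?_)
        rw [hr]
        show _ = eN (LinearMap.baseChange C φ (j.equiv.symm (algebraMap De Dp e)))
        rw [show j.equiv.symm (algebraMap De Dp e) = 1 ⊗ₜ e from j.equiv_symm_apply e, LinearMap.baseChange_tmul]
        show ε (φ e) = θ (1 ⊗ₜ φ e)
        rw [hθε, one_smul]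
      rw [hΦ, map_smul, LinearMap.smul_comp, hφ, LinearEquiv.lTensor_tmul, IsBaseChange.equiv_tmul]
      refine congrArg (c • ·) ?_
      exact (LinearMap.baseChange_comp π φ).symm
    | add x y hx hy => rw [map_add, map_add, LinearMap.add_comp, hx, hy, map_add, map_add]
  have hc : Function.Bijective fun x => (e₂.symm (Φ x)).comp πC := by
    rw [funext key]
    exact e₁.bijective.comp (eHom.lTensor C).bijective
  exact (Function.Bijective.of_comp_iff' e₂.symm.bijective _).1 ((Function.Bijective.of_comp_iff' hP _).1 hc)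

end Groth.L23.ChevGen
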