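import Groth.Agent.L23.ChevGen.TFAlg
import Mathlib.RingTheory.Localization.BaseChange
import Mathlib.RingTheory.Ideal.Maximal
import Mathlib.LinearAlgebra.Dimension.Free
import Mathlib.LinearAlgebra.DirectSum.Finsupp
import Mathlib.LinearAlgebra.TensorProduct.Pi
import Mathlib.RingTheory.Nilpotent.Basic
import Mathlib.LinearAlgebra.Dual.Lemmas

/-!
# Torsion at the generic points under flat base change, and maps into torsion-free modules
-/

universe u v w x

open TensorProduct

set_option autoImplicit false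
set_option linter.style.haveILetI false

noncomputable section

namespace Groth.L23.ChevGen

variable {R : Type u} [CommRing R] {G : Set (PrimeSpectrum R)}

theorem exists_smul_eq_zero (p : PrimeSpectrum R) (hp : IsField (Localization.AtPrime p.asIdeal)) {t : R}
    (ht : t ∈ p.asIdeal) : ∃ r ∉ p.asIdeal, r * t = 0 := by
  letI := hp.toField
  have h0 : algebraMap R (Localization.AtPrime p.asIdeal) t = 0 := by
    by_contra h
    exact (IsLocalization.AtPrime.isUnit_to_map_iff (Localization.AtPrime p.asIdeal) p.asIdeal t).1 (Ne.isUnit h) ht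
  obtain ⟨r, hr⟩ := (IsLocalization.map_eq_zero_iff p.asIdeal.primeCompl _ _).1 h0
  exact ⟨r, r.2, hr⟩

theorem eq_of_le (p : PrimeSpectrum R) (hp : IsField (Localization.AtPrime p.asIdeal)) {Q : Ideal R} [Q.IsPrime]
    (h : Q ≤ p.asIdeal) : Q = p.asIdeal := by
  refine le_antisymm h fun t ht => ?_
  obtain ⟨r, hr, hrt⟩ := exists_smul_eq_zero p hp ht
  exact ((‹Q.IsPrime›).mem_or_mem (hrt ▸ Q.zero_mem)).resolve_left fun hrQ => hr (h hrQ)

theorem exists_separator (hG : G.Finite) (hfield : ∀ p ∈ G, IsField (Localization.AtPrime p.asIdeal))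
    (p : PrimeSpectrum R) (hp : p ∈ G) :
    ∃ t ∉ p.asIdeal, ∀ p' ∈ G, p' ≠ p → t ∈ p'.asIdeal := by
  classical
  choose! t ht ht' using fun (p' : PrimeSpectrum R) (h : p' ∈ G ∧ p' ≠ p) => Set.not_subset.1 (fun hle =>
    h.2 (PrimeSpectrum.ext (haveI := p'.isPrime; eq_of_le p (hfield p hp) (Q := p'.asIdeal) hle)))
  let F := hG.toFinset.erase p
  have hF : ∀ {p'}, p' ∈ F → p' ∈ G ∧ p' ≠ p := fun h => by
    obtain ⟨h₁, h₂⟩ := Finset.mem_erase.1 h
    exact ⟨hG.mem_toFinset.1 h₂, h₁⟩
  refine ⟨∏ p' ∈ F, t p', fun h => ?_, fun p' hp' hne => ?_⟩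
  · obtain ⟨p', hp', h'⟩ := p.isPrime.prod_mem_iff.1 h
    exact ht' p' (hF hp') h'
  · have hm : p' ∈ F := Finset.mem_erase.2 ⟨hne, hG.mem_toFinset.2 hp'⟩
    exact Ideal.mem_of_dvd _ (Finset.dvd_prod_of_mem t hm) (ht p' (hF hm))

theorem isTor_quotient {M : Type*} [AddCommGroup M] [Module R M] (q : M ⧸ tor G M) (h : IsTor G q) : q = 0 := by
  obtain ⟨s, rfl⟩ := (tor G M).mkQ_surjective q
  refine (Submodule.Quotient.mk_eq_zero _).2 fun p hp => ?_
  obtain ⟨r, hr, hrs⟩ := h p hp
  obtain ⟨r', hr', hrs'⟩ := (Submodule.Quotient.mk_eq_zero _).1 ((Submodule.Quotient.mk_smul _ r s).trans hrs) p hp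
  exact ⟨r' * r, fun h => (p.isPrime.mem_or_mem h).elim hr' hr, by rw [mul_smul, hrs']⟩

set_option maxHeartbeats 800000 in
theorem exists_map_ne_zero {A : Type v} [CommRing A] [Algebra R A] [Module.Finite R A] {N : Type w} [AddCommGroup N]
    [Module R N] (hG : G.Finite) (hfield : ∀ p ∈ G, IsField (Localization.AtPrime p.asIdeal))
    (htf : ∀ n : N, IsTor G n → n = 0) {p : PrimeSpectrum R} (hp : p ∈ G)
    (hA : ∀ r ∉ p.asIdeal, algebraMap R A r ≠ 0) {q₀ : N} (hq₀ : ∀ r ∉ p.asIdeal, r • q₀ ≠ 0) :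
    ∃ φ : A →ₗ[R] N, φ ≠ 0 := by
  classical
  letI := (hfield p hp).toField
  let P := p.asIdeal.primeCompl
  let K := Localization.AtPrime p.asIdeal
  let jA : A →ₗ[R] LocalizedModule P A := LocalizedModule.mkLinearMap P A
  let jN : N →ₗ[R] LocalizedModule P N := LocalizedModule.mkLinearMap P N
  have h1 : jA 1 ≠ 0 := fun h0 => by
    obtain ⟨r, hr⟩ := (IsLocalizedModule.eq_zero_iff P jA).1 h0
    refine hA r r.2 ?_
    rw [Algebra.algebraMap_eq_smul_one]
    exact hr
  obtain ⟨lam, hlam⟩ := Module.Projective.exists_dual_ne_zero K h1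
  let ψ : A →ₗ[R] LocalizedModule P N :=
    ((((LinearMap.id : K →ₗ[K] K).smulRight (jN q₀)).comp lam).restrictScalars R).comp jA
  obtain ⟨n, π, hπ⟩ := Module.Finite.exists_fin' R A
  choose pr hpr using fun i : Fin n => IsLocalizedModule.surj P jN (ψ (π (Pi.single i 1)))
  let s : P := ∏ i, (pr i).2
  choose u hu using fun i : Fin n => Finset.dvd_prod_of_mem (fun i => (pr i).2) (Finset.mem_univ i)
  obtain ⟨t, ht, ht'⟩ := exists_separator hG hfield p hp
  let L : (Fin n → R) →ₗ[R] N := (Pi.basisFun R (Fin n)).constr R fun i => (u i : R) • (pr i).1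
  have hL : ∀ a, jN (L a) = (s : R) • ψ (π a) := by
    suffices h : jN.comp L = (s : R) • ψ.comp π from fun a => LinearMap.congr_fun h a
    refine (Pi.basisFun R (Fin n)).ext fun i => ?_
    rw [LinearMap.comp_apply, Module.Basis.constr_basis, map_smul, ← hpr i, LinearMap.smul_apply,
      LinearMap.comp_apply, Pi.basisFun_apply, Submonoid.smul_def, smul_smul]
    congr 1
    rw [show s = (pr i).2 * u i from hu i, Submonoid.coe_mul, mul_comm]
  have hker : LinearMap.ker π ≤ LinearMap.ker (t • L) := fun a ha => by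
    refine LinearMap.mem_ker.2 (htf _ fun p' hp' => ?_)
    by_cases hne : p' = p
    · subst hne
      have h0 : jN (L a) = 0 := by rw [hL, LinearMap.mem_ker.1 ha, map_zero, smul_zero]
      obtain ⟨r, hr⟩ := (IsLocalizedModule.eq_zero_iff P jN).1 h0
      exact ⟨r, r.2, by rw [LinearMap.smul_apply, smul_comm, show (r : R) • L a = 0 from hr, smul_zero]⟩
    · obtain ⟨r, hr, hrt⟩ := exists_smul_eq_zero p' (hfield p' hp') (ht' p' hp' hne)
      exact ⟨r, hr, by rw [LinearMap.smul_apply, smul_smul, hrt, zero_smul]⟩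
  refine ⟨((LinearMap.ker π).liftQ (t • L) hker).comp (π.quotKerEquivOfSurjective hπ).symm.toLinearMap, fun h => ?_⟩
  obtain ⟨a, ha⟩ := hπ 1
  have hLa : t • L a = 0 := by
    have h' := LinearMap.congr_fun h (π a)
    rw [LinearMap.comp_apply, LinearEquiv.coe_coe, show (π.quotKerEquivOfSurjective hπ).symm (π a) =
      Submodule.Quotient.mk a from (LinearEquiv.symm_apply_eq _).2 rfl, Submodule.liftQ_apply] at h'
    exact h'
  have h0 : algebraMap R K (t * s) • lam (jA 1) • jN q₀ = 0 := by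
    have e := congrArg jN hLa
    rw [map_smul, map_zero, hL, ha] at e
    rw [IsScalarTower.algebraMap_smul, mul_smul]
    exact e
  have hts : algebraMap R K (t * s) ≠ 0 :=
    (IsLocalization.map_units K (⟨t * (s : R), fun h => (p.isPrime.mem_or_mem h).elim ht s.2⟩ : P)).ne_zero
  have hq : jN q₀ ≠ 0 := fun h => by
    obtain ⟨r, hr⟩ := (IsLocalizedModule.eq_zero_iff P jN).1 h
    exact hq₀ r r.2 hr
  rw [smul_smul, smul_eq_zero] at h0
  exact h0.elim (mul_ne_zero hts hlam) hq

/-- Functions killing a finite module after flat base change come from its annihilator. -/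
theorem mem_map_annihilator {C : Type u} [CommRing C] [Algebra R C] [Module.Flat R C] {M : Type v} [AddCommGroup M]
    [Module R M] [Module.Finite R M] {M' : Type w} [AddCommGroup M'] [Module C M'] (θ : C ⊗[R] M →+ M')
    (hθ : Function.Injective θ) (hθs : ∀ c c' m, θ ((c * c') ⊗ₜ[R] m) = c • θ (c' ⊗ₜ[R] m)) {x : C}
    (hx : ∀ m, x • θ ((1 : C) ⊗ₜ[R] m) = 0) : x ∈ (Module.annihilator R M).map (algebraMap R C) := by
  classical
  obtain ⟨T, hT⟩ := (Module.finite_def.1 ‹Module.Finite R M›)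
  let Λ : R →ₗ[R] (T → M) := LinearMap.pi fun t => (LinearMap.id : R →ₗ[R] R).smulRight (t : M)
  have hker : LinearMap.ker Λ ≤ Module.annihilator R M := fun r hr => Module.mem_annihilator.2 fun m => by
    have hm : m ∈ Submodule.span R (T : Set M) := hT.ge trivial
    induction hm using Submodule.span_induction with
    | mem y hy => exact congrFun (LinearMap.mem_ker.1 hr) ⟨y, hy⟩
    | zero => exact smul_zero _
    | add a b _ _ ha hb => rw [smul_add, ha, hb, add_zero]
    | smul a y _ hy => rw [smul_comm, hy, smul_zero]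
  have h0 : Λ.lTensor C (x ⊗ₜ[R] (1 : R)) = 0 := by
    rw [LinearMap.lTensor_tmul]
    refine (piRight R R C fun _ : T => M).injective (funext fun t => ?_)
    rw [map_zero, piRight_apply, piRightHom_tmul]
    refine hθ ?_
    show θ (x ⊗ₜ[R] ((1 : R) • (t : M))) = θ 0
    rw [map_zero, one_smul, ← mul_one x, hθs]
    exact hx t
  obtain ⟨y, hy⟩ := (Module.Flat.lTensor_exact C (LinearMap.exact_subtype_ker_map Λ) _).1 h0
  have key : ∀ y, TensorProduct.rid R C ((LinearMap.ker Λ).subtype.lTensor C y) ∈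
      (Module.annihilator R M).map (algebraMap R C) := fun y => by
    induction y using TensorProduct.induction_on with
    | zero => simp
    | tmul c r =>
      rw [LinearMap.lTensor_tmul, TensorProduct.rid_tmul, Submodule.subtype_apply, Algebra.smul_def]
      exact Ideal.mul_mem_right c _ (Ideal.mem_map_of_mem _ (hker r.2))
    | add a b ha hb => rw [map_add, map_add]; exact add_mem ha hb
  have := key y
  rwa [hy, TensorProduct.rid_tmul, one_smul] at this

variable {C : Type u} [CommRing C] [Algebra R C] {G' : Set (PrimeSpectrum C)}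

set_option maxHeartbeats 800000 in
theorem eq_zero_of_isTor_localization [IsReduced C] (p : PrimeSpectrum R) (hp : IsField (Localization.AtPrime p.asIdeal))
    (hG' : ∀ Q : PrimeSpectrum C, Q.asIdeal.comap (algebraMap R C) = p.asIdeal → Q ∈ G')
    (y : C ⊗[R] Localization.AtPrime p.asIdeal) (hy : IsTor G' y) : y = 0 := by
  let P := p.asIdeal.primeCompl
  let K := Localization.AtPrime p.asIdeal
  have hform : ∀ y : C ⊗[R] K, ∃ s : P, ∃ c : C, (s : R) • y = c ⊗ₜ[R] (1 : K) := fun y => by
    induction y using TensorProduct.induction_on with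
    | zero => exact ⟨1, 0, by rw [smul_zero, TensorProduct.zero_tmul]⟩
    | tmul c k =>
      obtain ⟨⟨a, s⟩, e⟩ := IsLocalization.surj P k
      refine ⟨s, a • c, ?_⟩
      have e' : (s : R) • k = a • (1 : K) := by
        rw [Algebra.smul_def, Algebra.smul_def, mul_one, mul_comm]
        exact e
      rw [← TensorProduct.tmul_smul, e', TensorProduct.smul_tmul]
    | add a b ha hb =>
      obtain ⟨s, c, e⟩ := ha
      obtain ⟨t, d, e'⟩ := hb
      refine ⟨s * t, (t : R) • c + (s : R) • d, ?_⟩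
      rw [Submonoid.coe_mul, smul_add, mul_smul, smul_comm, e, mul_smul, e', TensorProduct.smul_tmul',
        TensorProduct.smul_tmul', ← TensorProduct.add_tmul]
  obtain ⟨s, c, hsc⟩ := hform y
  have hc : ∀ d : C, d ⊗ₜ[R] (1 : K) = 0 → ∃ r : P, (r : R) • d = 0 := fun d hd => by
    refine (IsLocalizedModule.eq_zero_iff P (TensorProduct.mk R K C 1)).1 ?_
    show (1 : K) ⊗ₜ[R] d = 0
    rw [← TensorProduct.comm_tmul, hd, map_zero]
  have hmem : ∀ Q : PrimeSpectrum C, Q.asIdeal.comap (algebraMap R C) = p.asIdeal → c ∈ Q.asIdeal := fun Q hQ => by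
    obtain ⟨r, hr, hry⟩ := hy Q (hG' Q hQ)
    have h0 : (r * c) ⊗ₜ[R] (1 : K) = 0 := by
      rw [← smul_eq_mul, ← TensorProduct.smul_tmul', ← hsc, smul_comm, hry, smul_zero]
    obtain ⟨r', hr'⟩ := hc _ h0
    rw [Algebra.smul_def] at hr'
    refine ((Q.isPrime.mem_or_mem ((Q.isPrime.mem_or_mem (hr' ▸ Q.asIdeal.zero_mem)).resolve_left fun h => ?_)).resolve_left hr)
    exact r'.2 (hQ.le (show (r' : R) ∈ Q.asIdeal.comap (algebraMap R C) from h))
  obtain ⟨r, hr, hrc⟩ : ∃ r : R, r ∉ p.asIdeal ∧ IsNilpotent (algebraMap R C r * c) := by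
    by_contra hno
    push Not at hno
    obtain ⟨Q, hQ, -, hdisj⟩ := Ideal.exists_le_prime_disjoint (⊥ : Ideal C)
      (P.map (algebraMap R C) ⊔ Submonoid.powers c) (Set.disjoint_left.2 fun x hx hx' => by
        obtain ⟨_, ⟨r, hr, rfl⟩, _, ⟨k, rfl⟩, rfl⟩ := Submonoid.mem_sup.1 hx'
        refine hno r hr ⟨k + 1, ?_⟩
        have h0 : algebraMap R C r * c ^ k = 0 := hx
        rw [pow_succ, mul_pow, show algebraMap R C r ^ k * c ^ k * (algebraMap R C r * c) =
          algebraMap R C r ^ k * c * (algebraMap R C r * c ^ k) by ring, h0, mul_zero])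
    haveI := hQ
    have hle : Q.comap (algebraMap R C) ≤ p.asIdeal := fun a ha => by
      by_contra h
      exact Set.disjoint_left.1 hdisj ha (Submonoid.mem_sup_left ⟨a, h, rfl⟩)
    exact Set.disjoint_left.1 hdisj (hmem ⟨Q, hQ⟩ (eq_of_le p hp hle))
      (Submonoid.mem_sup_right (Submonoid.mem_powers c))
  have hy0 : r • (s : R) • y = 0 := by
    rw [hsc, TensorProduct.smul_tmul', Algebra.smul_def, hrc.eq_zero, TensorProduct.zero_tmul]
  let v : P := ⟨r * s, fun h => (p.isPrime.mem_or_mem h).elim hr s.2⟩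
  have hunit : ∀ z : C ⊗[R] K, (v : R) • z = 0 → z = 0 := fun z hz => by
    obtain ⟨k, hk⟩ := (IsLocalization.map_units K v).exists_left_inv
    have e : ((LinearMap.mulLeft R k).lTensor C) ((v : R) • z) = z := by
      clear hz
      induction z using TensorProduct.induction_on with
      | zero => simp
      | tmul a b =>
        rw [← TensorProduct.tmul_smul, LinearMap.lTensor_tmul, LinearMap.mulLeft_apply, Algebra.smul_def,
          ← mul_assoc, hk, one_mul]
      | add a b ha hb => rw [smul_add, map_add, ha, hb]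
    rw [← e, hz, map_zero]
  exact hunit y (by rw [← hy0, smul_smul])

theorem eq_zero_of_forall_proj (hG' : ∀ p ∈ G, ∀ Q : PrimeSpectrum C, Q.asIdeal.comap (algebraMap R C) = p.asIdeal → Q ∈ G')
    [IsReduced C] (p : PrimeSpectrum R) (hp : p ∈ G) (hfield : IsField (Localization.AtPrime p.asIdeal))
    {V : Type x} [AddCommGroup V] [Module R V] {ι : Type*} (e : V ≃ₗ[R] ι →₀ Localization.AtPrime p.asIdeal)
    (w : C ⊗[R] V) (hw : IsTor G' w) : w = 0 := by
  classical
  let f : C ⊗[R] V →ₗ[C] C ⊗[R] (ι →₀ Localization.AtPrime p.asIdeal) := e.toLinearMap.baseChange C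
  have hf : Function.Injective f := (e.lTensor C).injective
  let F := finsuppRight R C C (Localization.AtPrime p.asIdeal) ι
  refine hf (F.injective ?_)
  rw [map_zero, map_zero]
  refine Finsupp.ext fun i => ?_
  refine eq_zero_of_isTor_localization p hfield (hG' p hp) _ fun Q hQ => ?_
  obtain ⟨r, hr, hrw⟩ := hw Q hQ
  refine ⟨r, hr, ?_⟩
  rw [← Finsupp.smul_apply, ← map_smul, ← map_smul, hrw, map_zero, map_zero]
  rfl

theorem eq_zero_of_isTor_pi [Module.Flat R C] {ι : Type} [Finite ι] {N : Type w} [AddCommGroup N] [Module R N]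
    {V : ι → Type x} [∀ i, AddCommGroup (V i)] [∀ i, Module R (V i)] (j : N →ₗ[R] ∀ i, V i) (hj : Function.Injective j)
    (h : ∀ i (w : C ⊗[R] V i), IsTor G' w → w = 0) (z : C ⊗[R] N) (hz : IsTor G' z) : z = 0 := by
  classical
  haveI := Fintype.ofFinite ι
  have hinj : Function.Injective (j.lTensor C) := Module.Flat.lTensor_preserves_injective_linearMap j hj
  refine hinj ?_
  rw [map_zero]
  let E := TensorProduct.piRight R C C V
  have hz' : IsTor G' (E (j.baseChange C z)) := (hz.map (j.baseChange C)).map E.toLinearMap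
  have h0 : E (j.baseChange C z) = 0 := funext fun i => h i _ (hz'.map (LinearMap.proj (R := C) i))
  exact E.injective (h0.trans (map_zero E).symm)

theorem eq_zero_of_isTor [IsReduced C] [Module.Flat R C] {N : Type w} [AddCommGroup N] [Module R N] (hG : G.Finite)
    (hfield : ∀ p ∈ G, IsField (Localization.AtPrime p.asIdeal))
    (hG' : ∀ p ∈ G, ∀ Q : PrimeSpectrum C, Q.asIdeal.comap (algebraMap R C) = p.asIdeal → Q ∈ G')
    (htf : ∀ n : N, IsTor G n → n = 0) (z : C ⊗[R] N) (hz : IsTor G' z) : z = 0 := by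
  obtain ⟨m, ⟨σ⟩⟩ : ∃ m, Nonempty (Fin m ≃ G) := by
    haveI := hG.to_subtype
    exact ⟨Nat.card G, ⟨(Finite.equivFin G).symm⟩⟩
  let V : Fin m → Type _ := fun i => LocalizedModule (σ i).1.asIdeal.primeCompl N
  let j : N →ₗ[R] ∀ i, V i :=
    LinearMap.pi fun i => LocalizedModule.mkLinearMap (σ i).1.asIdeal.primeCompl N
  refine eq_zero_of_isTor_pi (G' := G') j ((injective_iff_map_eq_zero j).2 fun n hn => htf n fun p hp => ?_)
    (fun i w hw => ?_) z hz
  · obtain ⟨i, hi⟩ := σ.surjective ⟨p, hp⟩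
    obtain ⟨r, hr⟩ := (IsLocalizedModule.eq_zero_iff (σ i).1.asIdeal.primeCompl
      (LocalizedModule.mkLinearMap (σ i).1.asIdeal.primeCompl N)).1 (congrFun hn i)
    exact ⟨r, fun h => r.2 ((show (σ i).1 = p from congrArg Subtype.val hi) ▸ h), hr⟩
  · letI := (hfield (σ i).1 (σ i).2).toField
    exact eq_zero_of_forall_proj hG' (σ i).1 (σ i).2 (hfield (σ i).1 (σ i).2)
      ((Module.Free.chooseBasis (Localization.AtPrime (σ i).1.asIdeal) (V i)).repr.restrictScalars R) w hw

/-- Torsion at the generic points is the base change of torsion. -/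
theorem mem_range_tor [IsReduced C] [Module.Flat R C] {M : Type w} [AddCommGroup M] [Module R M] (hG : G.Finite)
    (hfield : ∀ p ∈ G, IsField (Localization.AtPrime p.asIdeal))
    (hG' : ∀ p ∈ G, ∀ Q : PrimeSpectrum C, Q.asIdeal.comap (algebraMap R C) = p.asIdeal → Q ∈ G')
    (z : C ⊗[R] M) (hz : IsTor G' z) : z ∈ LinearMap.range ((tor G M).subtype.lTensor C) :=
  (Module.Flat.lTensor_exact C (LinearMap.exact_subtype_mkQ (tor G M)) z).1
    (eq_zero_of_isTor hG hfield hG' isTor_quotient _ (hz.map ((tor G M).mkQ.baseChange C)))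

end Groth.L23.ChevGen
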