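import Groth.Prelude.Def_Flat
import Mathlib.AlgebraicGeometry.Morphisms.Integral
import Mathlib.AlgebraicGeometry.Morphisms.UniversallyInjective

/-!
# Integral, universally injective, surjective morphisms are universal homeomorphisms
-/

universe u

open CategoryTheory AlgebraicGeometry

set_option autoImplicit false
set_option linter.style.haveILetI false
set_option backward.isDefEq.respectTransparency.types false

namespace Groth.L23.ChevGen

theorem isUnivHomeo_of_integral {A B : Scheme.{u}} (φ : A ⟶ B) (h₁ : IsIntegralHom φ) (h₂ : UniversallyInjective φ)
    (h₃ : Surjective φ) : FlatMor.IsUnivHomeo φ := by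
  intro A' B' a b φ' sq
  haveI : IsIntegralHom φ' := MorphismProperty.of_isPullback sq.flip h₁
  haveI : UniversallyInjective φ' := MorphismProperty.of_isPullback sq.flip h₂
  haveI : Surjective φ' := MorphismProperty.of_isPullback sq.flip h₃
  exact isHomeomorph_iff_isEmbedding_surjective.2
    ⟨(Topology.IsClosedEmbedding.of_continuous_injective_isClosedMap φ'.continuous φ'.injective φ'.isClosedMap).isEmbedding,
      φ'.surjective⟩

end Groth.L23.ChevGen
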