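import Groth.Agent.L23.ChevGen.HomTF
import Groth.Agent.L23.ChevGen.Colim
import Groth.Agent.L23.ChevNoeth
import Groth.Agent.L23.UnionAffine
import Mathlib.LinearAlgebra.FiniteDimensional.Basic

/-!
# Vanishing on an integral space whose proper closed subspaces are affine
-/

universe u

open CategoryTheory CategoryTheory.Limits AlgebraicGeometry Opposite AlgSp TopologicalSpace

set_option autoImplicit false
set_option linter.style.haveILetI false
set_option backward.isDefEq.respectTransparency false
set_option backward.isDefEq.respectTransparency.types false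

noncomputable section

namespace Groth.L23.ChevGen

open Groth.L09.ModEt Groth.L23.GlobSec Groth.L23.SubQcoh

variable {S : Scheme.{u}} {X : AlgSp.Space S} {η : Points X.obj}

theorem exists_mem_fibre (hG : Setting X η) (a : Atlas X.obj) :
    ∃ P : PrimeSpectrum (Γ₀ a.U), P ∈ Gen X η a.U := by
  obtain ⟨e, he⟩ := a.surj η
  exact ⟨⟨_, (a.U.obj.left.left.toSpecΓ e).isPrime⟩, e, he, rfl⟩

theorem torFree_cokernel (hG : Setting X η) (M : ModEt X.obj) [M.IsQuasicoherent] :
    TorFree η (cokernel (torSub hG M).ι) := fun E _ t ht => by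
  let A := torSub hG M
  haveI := A.isQuasicoherent
  let C : ShortComplex (ModEt X.obj) := ShortComplex.mk A.ι (cokernel.π A.ι) (cokernel.condition _)
  have hC : C.ShortExact :=
    { exact := ShortComplex.cokernelSequence_exact _
      mono_f := inferInstanceAs (Mono A.ι)
      epi_g := inferInstanceAs (Epi (cokernel.π A.ι)) }
  haveI : C.X₁.IsQuasicoherent := A.isQuasicoherent
  obtain ⟨s, rfl⟩ := surjective_sapp hC E t
  have hs : IsTor (Gen X η E) s := fun P hP => by
    obtain ⟨r, hr, hrs⟩ := ht P hP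
    rw [← map_smul] at hrs
    obtain ⟨w, hw⟩ := ((exact_sapp hC.exact hC.mono_f E).2 _).1 hrs
    obtain ⟨r', hr', hrs'⟩ : ∃ r' ∉ P.asIdeal, r' • sapp A.ι E w = 0 := (A.range_ι E).le ⟨w, rfl⟩ P hP
    refine ⟨r' * r, fun h => (P.isPrime.mem_or_mem h).elim hr' hr, ?_⟩
    rw [mul_smul, ← hw]
    exact hrs'
  obtain ⟨w, hw⟩ := (A.range_ι E).ge (show s ∈ A.P E from hs)
  rw [← hw]
  exact sapp_g_f (C := C) E w

/-- The total generic dimension over the atlas. -/
def genDim (hG : Setting X η) (a : Atlas X.obj) (Q : ModEt X.obj) : ℕ :=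
  haveI := a.aff
  ∑ P ∈ (finite_gen hG a.U).toFinset,
    Module.finrank (Localization P.asIdeal.primeCompl)
      (LocalizedModule P.asIdeal.primeCompl (sectModEt Q a.U))

theorem finrank_le_of_surjective {R : Type u} [CommRing R] (P : PrimeSpectrum R)
    (hP : IsField (Localization.AtPrime P.asIdeal)) {A B : Type*} [AddCommGroup A] [AddCommGroup B] [Module R A]
    [Module R B] [Module.Finite R A] (f : A →ₗ[R] B) (hf : Function.Surjective f) :
    Module.finrank (Localization P.asIdeal.primeCompl) (LocalizedModule P.asIdeal.primeCompl B) ≤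
      Module.finrank (Localization P.asIdeal.primeCompl) (LocalizedModule P.asIdeal.primeCompl A) := by
  letI : Field (Localization P.asIdeal.primeCompl) := hP.toField
  exact LinearMap.finrank_le_finrank_of_surjective (R := Localization P.asIdeal.primeCompl)
    (f := LocalizedModule.map P.asIdeal.primeCompl f) (LocalizedModule.map_surjective _ _ hf)

theorem finrank_lt_of_surjective {R : Type u} [CommRing R] (P : PrimeSpectrum R)
    (hP : IsField (Localization.AtPrime P.asIdeal)) {A B : Type*} [AddCommGroup A] [AddCommGroup B] [Module R A]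
    [Module R B] [Module.Finite R A] (f : A →ₗ[R] B) (hf : Function.Surjective f) {x : A} (hx : f x = 0)
    (hx' : ∀ r ∉ P.asIdeal, r • x ≠ 0) :
    Module.finrank (Localization P.asIdeal.primeCompl) (LocalizedModule P.asIdeal.primeCompl B) <
      Module.finrank (Localization P.asIdeal.primeCompl) (LocalizedModule P.asIdeal.primeCompl A) := by
  letI : Field (Localization P.asIdeal.primeCompl) := hP.toField
  let F := LocalizedModule.map P.asIdeal.primeCompl f
  have hsum := F.finrank_range_add_finrank_ker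
  rw [LinearMap.range_eq_top.2 (LocalizedModule.map_surjective _ _ hf), finrank_top] at hsum
  have hne : LinearMap.ker F ≠ ⊥ := by
    intro h
    have hx0 : LocalizedModule.mk x (1 : P.asIdeal.primeCompl) ∈ LinearMap.ker F := by
      show LocalizedModule.map _ f _ = 0
      rw [LocalizedModule.map_mk, hx, LocalizedModule.zero_mk]
    rw [h, Submodule.mem_bot, ← LocalizedModule.zero_mk (1 : P.asIdeal.primeCompl), LocalizedModule.mk_eq] at hx0
    obtain ⟨u, hu⟩ := hx0
    exact hx' u u.2 (by simpa [Submonoid.smul_def] using hu)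
  have hpos : 0 < Module.finrank (Localization P.asIdeal.primeCompl) (LinearMap.ker F) :=
    Nat.pos_of_ne_zero fun h0 => hne (Submodule.finrank_eq_zero.1 h0)
  omega

variable [QuasiSeparatedSpace ↥S] {D : Over S} [IsAffine D.left] (q : (yon S).obj D ⟶ X.obj)
  (hfin : IsFiniteMor q) (hsurj : IsSurjectiveMor q) (hqc : IsQuasiCompactSp X.obj) (hG : Setting X η)
  (hP : ∀ (E E' : EtOver X.obj), IsAffine E.obj.left.left → IsAffine E'.obj.left.left →
    IsAffine (EtOver.prodObj E E').obj.left.left)
  (hsub : ∀ I : IdealEt X.obj, I.IsQCoh →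
    (∃ (E : EtOver X.obj) (hE : IsAffine E.obj.left.left) (P : PrimeSpectrum (Γ₀ E)),
      P ∈ Gen X η E ∧ ∃ f ∈ I.ideal E hE, f ∉ P.asIdeal) →
    ∃ (T : Over S) (_ : IsAffine T.left) (c : (yon S).obj T ⟶ X.obj), IsCutOutBy I c)

include hqc hG hsub in
theorem subsingleton_h_torAll_ft (m : ℕ) (hm : 0 < m) (M : ModEt X.obj) [M.IsQuasicoherent] [M.IsFiniteType]
    (hM : TorAll η M) : Subsingleton (HModEt X.obj M m) := by
  obtain ⟨a⟩ := nonempty_atlas X hqc hG.qs
  haveI := a.aff
  obtain ⟨P, hP'⟩ := exists_mem_fibre hG a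
  obtain ⟨f, hf, hf'⟩ := exists_notMem_annihilator hG hM hP'
  obtain ⟨T, hT, c, hc, hI⟩ := hsub (annIdeal M) (annIdeal_isQCoh M) ⟨a.U, a.aff, P, hP', f, hf, hf'⟩
  haveI := hT
  refine UnionAffine.subsingleton_h_of_killed c hc M (fun E hE s => ?_) m hm
  rw [hI]
  intro r hr
  exact Module.mem_annihilator.1 hr s

include hqc hG hsub in
theorem subsingleton_h_torAll (m : ℕ) (hm : 0 < m) (M : ModEt X.obj) [M.IsQuasicoherent] (hM : TorAll η M) :
    Subsingleton (HModEt X.obj M m) :=
  subsingleton_h_of_submodules X hqc hG.qs m M fun N f hf hN hN' =>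
    subsingleton_h_torAll_ft hqc hG hsub m hm N fun E _ s P hP => by
      obtain ⟨r, hr, hrs⟩ := hM E (sapp f E s) P hP
      exact ⟨r, hr, injective_sapp_of_mono f E (by rw [map_smul, hrs, map_zero])⟩

include hfin hsurj hqc hG hP hsub in
set_option maxHeartbeats 1600000 in
theorem subsingleton_h (n : ℕ) (hn : 1 ≤ n) :
    ∀ M : ModEt X.obj, M.IsQuasicoherent → Subsingleton (HModEt X.obj M n) := by
  obtain ⟨N, hNb⟩ := Groth.Agent.S12196.result X hqc hG.qs
  suffices H : ∀ k m, 1 ≤ m → N ≤ m + k → ∀ M : ModEt X.obj, M.IsQuasicoherent → Subsingleton (HModEt X.obj M m) from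
    H N n hn (by omega)
  intro k
  induction k with
  | zero => exact fun m _ hm M hM => hNb M hM m hm
  | succ k ih =>
  intro m hm hmk M hM
  haveI := hM
  have hnext : ∀ M : ModEt X.obj, M.IsQuasicoherent → Subsingleton (HModEt X.obj M (m + 1)) :=
    ih (m + 1) (by omega) (by omega)
  obtain ⟨a⟩ := nonempty_atlas X hqc hG.qs
  haveI := a.aff
  have hq : Representable q := X.property.representable_from_yon q
  have hfa : RepWith @IsFinite q := Groth.L23.isFiniteMor_iff.1 hfin
  have haff : RepWith @IsAffineHom q :=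
    repWith_mono (fun φ (_ : IsFinite φ) => inferInstanceAs (IsAffineHom φ)) hfa
  have hs : RepWith @Surjective q := repWith_surjective_of_map hq hsurj
  haveI := Groth.L23.FLF.isQuasicoherent_unit ((yon S).obj D)
  haveI hMDq : (MD q hq).IsQuasicoherent := PushAff.isQuasicoherent_push hq _ haff
  haveI hMD0 : Subsingleton (HModEt X.obj (MD q hq) m) := by
    let Z : AlgSp.Space S := ⟨(yon S).obj D, IsAlgSpace.yon_obj _⟩
    obtain ⟨e⟩ := Groth.Agent.S10751.result (X := Z) (Y := X) (ObjectProperty.homMk q) hq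
      (Groth.L23.isAffineMor_iff.2 haff) (unitModEt ((yon S).obj D)) m
    haveI := Groth.Agent.S10754.result Z D inferInstance (Iso.refl _) (unitModEt ((yon S).obj D)) m hm
    exact e.symm.toEquiv.subsingleton
  refine subsingleton_h_of_submodules X hqc hG.qs m M fun N₀ _ _ hq0 hf0 => ?_
  suffices H : ∀ (d : ℕ) (Q : ModEt X.obj) (_ : Q.IsQuasicoherent) (_ : Q.IsFiniteType),
      genDim hG a Q = d → Subsingleton (HModEt X.obj Q m) from H _ N₀ hq0 hf0 rfl
  intro d
  induction d using Nat.strong_induction_on with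
  | _ d IH =>
  intro Q hQ hQf hd
  haveI := hQ
  haveI := hQf
  let A := torSub hG Q
  haveI := A.isQuasicoherent
  let C : ShortComplex (ModEt X.obj) := ShortComplex.mk A.ι (cokernel.π A.ι) (cokernel.condition _)
  have hC : C.ShortExact :=
    { exact := ShortComplex.cokernelSequence_exact _
      mono_f := inferInstanceAs (Mono A.ι)
      epi_g := inferInstanceAs (Epi (cokernel.π A.ι)) }
  haveI : C.X₁.IsQuasicoherent := A.isQuasicoherent
  haveI hX₁ : Subsingleton (HModEt X.obj C.X₁ m) := subsingleton_h_torAll hqc hG hsub m hm A.mod (torAll_torSub hG)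
  let Q₁ := cokernel A.ι
  haveI hQ₁ : Q₁.IsQuasicoherent := QcClosure.isQuasicoherent_cokernel A.ι
  haveI : Q₁.IsFiniteType := FP.isFiniteType_of_epi (cokernel.π A.ι)
  haveI : Subsingleton (HModEt X.obj C.X₃ m) := by
    show Subsingleton (HModEt X.obj Q₁ m)
    by_cases hne : ∃ s : sectModEt Q₁ a.U, s ≠ 0
    swap
    · push Not at hne
      exact ChevNoeth.subsingleton_h_of_isZero (ChevNoeth.eq_zero_of_atlas a (𝟙 Q₁) fun s => hne s) m
    obtain ⟨ψ, hψ⟩ := ChevGen.exists_hom_ne_zero hq Q₁ hfa hG (torFree_cokernel hG Q) hs hP hne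
    obtain ⟨x, hx⟩ : ∃ x, CohNbhd.app₀ ψ a.U x ≠ 0 := by
      by_contra h0
      push Not at h0
      exact hψ (ChevNoeth.eq_zero_of_atlas a ψ h0)
    haveI := QcClosure.isQuasicoherent_cokernel ψ
    haveI := FP.isFiniteType_of_epi (cokernel.π ψ)
    haveI := QcClosure.isQuasicoherent_kernel (cokernel.π ψ)
    haveI : (Abelian.image ψ).IsQuasicoherent := QcClosure.isQuasicoherent_kernel (cokernel.π ψ)
    haveI : Subsingleton (HModEt X.obj (Abelian.image ψ) m) := by
      haveI : Subsingleton (HModEt X.obj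
          (ShortComplex.mk (kernel.ι (Abelian.factorThruImage ψ)) (Abelian.factorThruImage ψ)
            (kernel.condition _)).X₁ (m + 1)) := hnext _ (QcClosure.isQuasicoherent_kernel _)
      exact ChevNoeth.subsingleton_h₃ (ChevNoeth.shortExact_kernel_of_epi (Abelian.factorThruImage ψ)) m
    let C₂ : ShortComplex (ModEt X.obj) :=
      ShortComplex.mk (kernel.ι (cokernel.π ψ)) (cokernel.π ψ) (kernel.condition _)
    have hC₂ : C₂.ShortExact := ChevNoeth.shortExact_kernel_of_epi (cokernel.π ψ)
    haveI : C₂.X₁.IsQuasicoherent := QcClosure.isQuasicoherent_kernel (cokernel.π ψ)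
    haveI : Subsingleton (HModEt X.obj C₂.X₁ m) := ‹Subsingleton (HModEt X.obj (Abelian.image ψ) m)›
    haveI : Subsingleton (HModEt X.obj C₂.X₃ m) := by
      show Subsingleton (HModEt X.obj (cokernel ψ) m)
      refine IH (genDim hG a (cokernel ψ)) ?_ (cokernel ψ) inferInstance inferInstance rfl
      rw [← hd]
      haveI := finite_sectModEt Q a.U
      haveI := finite_sectModEt Q₁ a.U
      obtain ⟨p, hp, hxp⟩ : ∃ p ∈ Gen X η a.U, ∀ r ∉ p.asIdeal, r • CohNbhd.app₀ ψ a.U x ≠ 0 := by
        by_contra hno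
        push Not at hno
        exact hx (torFree_cokernel hG Q a.U _ hno)
      have hx0 : sapp (cokernel.π ψ) a.U (CohNbhd.app₀ ψ a.U x) = 0 :=
        (QcClosure.app₀_comp ψ (cokernel.π ψ) a.U x).symm.trans
          (QcClosure.app₀_of_eq_zero _ (cokernel.condition ψ) _ _)
      refine lt_of_lt_of_le (b := genDim hG a Q₁) (Finset.sum_lt_sum (fun P hP' => ?_) ⟨p, (finite_gen hG a.U).mem_toFinset.2 hp, ?_⟩)
        (Finset.sum_le_sum fun P hP' => ?_)
      · exact finrank_le_of_surjective P (field_gen hG a.U P ((finite_gen hG a.U).mem_toFinset.1 hP'))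
          (sapp (cokernel.π ψ) a.U) (surjective_sapp hC₂ a.U)
      · exact finrank_lt_of_surjective p (field_gen hG a.U p hp) (sapp (cokernel.π ψ) a.U) (surjective_sapp hC₂ a.U)
          hx0 hxp
      · exact finrank_le_of_surjective P (field_gen hG a.U P ((finite_gen hG a.U).mem_toFinset.1 hP'))
          (sapp (cokernel.π A.ι) a.U) (surjective_sapp hC a.U)
    exact ChevNoeth.subsingleton_h₂ hC₂ m
  exact ChevNoeth.subsingleton_h₂ hC m

end Groth.L23.ChevGen
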